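import Cfsg.Agent.Lib.BPStar.Trace
import Cfsg.Agent.Lib.Blocks.WeakOrth

/-!
# Traces of idempotents of the group ring

The trace of an idempotent is a natural number; on lifted idempotents it depends only on the values
at the `p`-regular elements; the coefficient at the identity of a lift depends only on the
idempotent over the residue field.
-/

set_option autoImplicit false
set_option linter.unusedSectionVars false

namespace CfsgLib.FreeInertial

open Cfsg MonoidAlgebra CfsgLib.Blocks CfsgLib.BrauerPairs CfsgLib.BPStar CfsgLib.Characters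
open scoped Classical ComplexConjugate

universe u

variable {p : ℕ} [Fact p.Prime] {M : Ideal AlgInt} [M.IsMaximal]
variable {G : Type u} [Group G] [Fintype G]

theorem exists_nat_trC_idem {χ : G → ℂ} (hχ : IsCharacter G χ) {y : MonoidAlgebra ℂ G}
    (hy : IsIdempotentElem y) : ∃ N : ℕ, trC χ y = (N : ℂ) := by
  obtain ⟨s, hs, hroot⟩ := exists_roots hχ y
  refine ⟨(s.filter fun μ => μ ≠ 0).card, ?_⟩
  have hval : ∀ μ ∈ s, μ = 0 ∨ μ = 1 := fun μ hμ => by
    have h := hroot μ hμ (Polynomial.X * Polynomial.X - Polynomial.X) (by simp [hy.eq])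
    simp only [Polynomial.eval_sub, Polynomial.eval_mul, Polynomial.eval_X] at h
    rcases eq_or_ne μ 0 with h0 | h0
    · exact Or.inl h0
    · exact Or.inr (mul_left_cancel₀ h0 (by linear_combination h))
  rw [hs]
  clear hs hroot
  induction s using Multiset.induction with
  | empty => simp
  | cons μ s ih =>
    rw [Multiset.sum_cons, ih fun ν hν => hval ν (Multiset.mem_cons_of_mem hν)]
    rcases hval μ (Multiset.mem_cons_self μ s) with h | h <;> subst h <;> simp [add_comm]

/-- A class function and a lifted idempotent see only the regular elements. -/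
theorem trC_eq_of_regular (hM : IsPModular p M) {θ θ' : G → ℂ} (hθ : IsClassFunction G θ)
    (hθ' : IsClassFunction G θ') (h : ∀ g, ¬ p ∣ orderOf g → θ g = θ' g)
    {E : MonoidAlgebra (lRing hM) G} (hE : IsIdempotentElem E) :
    trC θ (inc hM E) = trC θ' (inc hM E) := by
  set y := inc hM E with hy
  have hyi : IsIdempotentElem y := hE.map _
  have hR : ∀ x, MemLocalRing M (y.coeff x) := fun x => by
    rw [hy, coeff_inc]; exact (E.coeff x).2
  set δ : G → ℂ := fun g => θ g - θ' g with hδ
  have hδc : ∀ g x : G, IsConj g x → δ g = δ x := fun g x hgx => by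
    rw [hδ]
    simp only [classFunction_eq_of_isConj hθ hgx, classFunction_eq_of_isConj hθ' hgx]
  set w : G → ℂ := fun g => ((Finset.univ.filter fun x => IsConj g x).card : ℂ) with hw
  have hwc : ∀ g x : G, IsConj g x → w g = w x := fun g x hgx => by
    simp only [hw]
    congr 2
    ext z
    simp only [Finset.mem_filter, Finset.mem_univ, true_and]
    exact ⟨fun hz => hgx.symm.trans hz, fun hz => hgx.trans hz⟩
  have key : ∑ g, y.coeff g * δ g = ∑ g, (w g)⁻¹ * δ g * classTrace g y := by
    simp only [classTrace, Finset.mul_sum, mul_ite, mul_zero]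
    rw [Finset.sum_comm]
    refine Finset.sum_congr rfl fun x _ => ?_
    have hx : w x ≠ 0 := by
      simp only [hw]
      exact Nat.cast_ne_zero.2 (Finset.card_ne_zero.2 ⟨x, Finset.mem_filter.2 ⟨Finset.mem_univ _, IsConj.refl x⟩⟩)
    rw [← Finset.sum_filter, Finset.sum_congr rfl (g := fun _ => (w x)⁻¹ * δ x * y.coeff x)
      fun g hg => ?_, Finset.sum_const, nsmul_eq_mul]
    · have hcard : ((Finset.univ.filter fun g => IsConj g x).card : ℂ) = w x := by
        simp only [hw]
        congr 2
        ext z
        simp only [Finset.mem_filter, Finset.mem_univ, true_and]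
        exact ⟨fun hz => hz.symm, fun hz => hz.symm⟩
      rw [hcard]
      field_simp
    · have hgx : IsConj g x := (Finset.mem_filter.1 hg).2
      rw [hwc g x hgx, hδc g x hgx]
  have h0 : ∑ g, y.coeff g * δ g = 0 := by
    rw [key]
    refine Finset.sum_eq_zero fun g _ => ?_
    by_cases hg : p ∣ orderOf g
    · rw [classTrace_eq_zero hM hyi hR hg, mul_zero]
    · rw [hδ]; simp only [h g hg, sub_self, mul_zero, zero_mul]
  simp only [hδ, mul_sub, Finset.sum_sub_distrib, sub_eq_zero] at h0
  exact h0

/-- The coefficient at the identity through the traces. -/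
theorem sum_degree_trC (y : MonoidAlgebra ℂ G) :
    ∑ χ : IrrCharacter G, (χ : G → ℂ) 1 * trC (χ : G → ℂ) y = (Nat.card G : ℂ) * y.coeff 1 := by
  show ∑ χ : IrrCharacter G, (χ : G → ℂ) 1 * (∑ g, y.coeff g * (χ : G → ℂ) g) = _
  simp only [Finset.mul_sum]
  rw [Finset.sum_comm, Finset.sum_eq_single (1 : G)]
  · have h1 := column_orth (G := G) 1 1
    rw [if_pos (IsConj.refl _), show Subgroup.centralizer ({1} : Set G) = ⊤ from
      eq_top_iff.2 fun g _ => Subgroup.mem_centralizer_singleton_iff.2 (by simp),
      Subgroup.card_top] at h1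
    rw [← h1, Finset.sum_mul]
    refine Finset.sum_congr rfl fun χ _ => ?_
    rw [← irr_apply_inv, inv_one]; ring
  · intro g _ hg
    have h1 := column_orth (G := G) g 1
    rw [if_neg fun hc : IsConj g 1 => hg (isConj_one_left.1 hc)] at h1
    calc _ = y.coeff g * ∑ χ : IrrCharacter G, (χ : G → ℂ) g * conj ((χ : G → ℂ) 1) := by
          rw [Finset.mul_sum]
          refine Finset.sum_congr rfl fun χ _ => ?_
          rw [← irr_apply_inv, inv_one]; ring
      _ = 0 := by rw [h1, mul_zero]
  · exact fun h' => absurd (Finset.mem_univ _) h'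

variable (hM : IsPModular p M)

/-- The coefficient at the identity of an idempotent lifting `f`. -/
noncomputable def oneC (f : MonoidAlgebra (ResK M) G) : ℂ :=
  if h : ∃ E : MonoidAlgebra (lRing hM) G, IsIdempotentElem E ∧ red hM E = f
    then ((h.choose.coeff 1 : lRing hM) : ℂ) else 0

theorem oneC_eq {f : MonoidAlgebra (ResK M) G} {E : MonoidAlgebra (lRing hM) G}
    (hE : IsIdempotentElem E) (hEf : red hM E = f) : oneC hM f = (E.coeff 1 : ℂ) := by
  have h : ∃ E : MonoidAlgebra (lRing hM) G, IsIdempotentElem E ∧ red hM E = f := ⟨E, hE, hEf⟩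
  rw [oneC, dif_pos h]
  set E' := h.choose
  obtain ⟨hE', hE'f⟩ := h.choose_spec
  have hu : IsPPart p (1 : G) 1 :=
    ⟨1, by simp, Commute.one_left _, ⟨0, by simp⟩, by rw [orderOf_one]; exact hM.1.not_dvd_one⟩
  have htr : ∀ χ : IrrCharacter G, trC (χ : G → ℂ) (inc hM E') = trC (χ : G → ℂ) (inc hM E) := by
    intro χ
    have h1 := trR_idem_congr hM (irr_isCharacter χ) hu hE' hE
      (by rw [← MonoidAlgebra.one_def]; exact Commute.one_left _)
      (by rw [← MonoidAlgebra.one_def]; exact Commute.one_left _)
      (fun x _ => by rw [hE'f, hEf])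
    simpa only [trR, ← MonoidAlgebra.one_def, one_mul] using h1
  refine mul_left_cancel₀ (Nat.cast_ne_zero.2 Nat.card_pos.ne' : (Nat.card G : ℂ) ≠ 0) ?_
  rw [← coeff_inc hM E' 1, ← coeff_inc hM E 1, ← sum_degree_trC, ← sum_degree_trC]
  exact Finset.sum_congr rfl fun χ _ => by rw [htr χ]

theorem oneC_conjA {f : MonoidAlgebra (ResK M) G} (hf : IsIdempotentElem f) (t : G) :
    oneC hM (conjA t f) = oneC hM f := by
  obtain ⟨E, hE, hEr, -⟩ := exists_idem_lift hM hf
  have hmul : (single t⁻¹ 1 : MonoidAlgebra (lRing hM) G) * single t 1 = 1 := by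
    rw [single_mul_single, inv_mul_cancel, mul_one, MonoidAlgebra.one_def]
  have hE' : IsIdempotentElem (single t 1 * E * single t⁻¹ 1 : MonoidAlgebra (lRing hM) G) := by
    rw [IsIdempotentElem]
    calc _ = single t 1 * (E * ((single t⁻¹ 1 * single t 1) * E)) * single t⁻¹ 1 := by
          simp only [mul_assoc]
      _ = _ := by rw [hmul, one_mul, hE.eq]
  rw [oneC_eq hM hE' (by rw [map_mul, map_mul, red_single, red_single, map_one, hEr, conjA]),
    oneC_eq hM hE hEr]
  congr 1
  rw [coeff_mul_single_apply, mul_one, inv_inv, one_mul, coeff_single_mul_eq_mul_coeff (x := E)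
    (1 : G) (fun m _ => ⟨fun e => mul_left_cancel (e.trans (mul_one t).symm), fun e => by
      rw [e, mul_one]⟩), one_mul]

/-- The embedding of the group ring of a subgroup over the local integers. -/
noncomputable def inclR (K : Subgroup G) :
    MonoidAlgebra (lRing hM) K →+* MonoidAlgebra (lRing hM) G :=
  MonoidAlgebra.mapDomainRingHom (lRing hM) K.subtype

theorem coeff_inclR {K : Subgroup G} (a : MonoidAlgebra (lRing hM) K) (x : K) :
    (inclR hM K a).coeff (x : G) = a.coeff x :=
  Finsupp.mapDomain_apply Subtype.val_injective a.coeff x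

theorem coeff_inclR_of_notMem {K : Subgroup G} (a : MonoidAlgebra (lRing hM) K) {x : G}
    (hx : x ∉ K) : (inclR hM K a).coeff x = 0 :=
  Finsupp.mapDomain_notin_range a.coeff x fun ⟨y, hy⟩ => hx (hy ▸ y.2)

theorem red_inclR {K : Subgroup G} (a : MonoidAlgebra (lRing hM) K) :
    red hM (inclR hM K a) = inclA (ResK M) K (red hM a) := by
  ext x
  by_cases hx : x ∈ K
  · rw [show x = ((⟨x, hx⟩ : K) : G) from rfl, coeff_red, coeff_inclR, coeff_inclA, coeff_red]
  · rw [coeff_red, coeff_inclR_of_notMem hM a hx, map_zero, coeff_inclA_of_notMem _ hx]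

/-- The coefficient at the identity does not depend on the ambient group. -/
theorem oneC_inclA {K : Subgroup G} [Fintype K] {f : MonoidAlgebra (ResK M) K}
    (hf : IsIdempotentElem f) : oneC hM (inclA (ResK M) K f) = oneC hM f := by
  obtain ⟨E, hE, hEr, -⟩ := exists_idem_lift hM hf
  rw [oneC_eq hM (hE.map (inclR hM K)) (by rw [red_inclR, hEr]), oneC_eq hM hE hEr,
    ← Subgroup.coe_one K, coeff_inclR]

end CfsgLib.FreeInertial
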