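import Cfsg.Agent.Lib.FreeInertial.Rational

/-!
# Phases: inclusion-exclusion over the minimal subgroups, and invariance under a group of order
prime to `p`
-/

set_option autoImplicit false
set_option linter.unusedSectionVars false
set_option linter.style.haveILetI false

namespace CfsgLib.FreeInertial

open scoped Classical ComplexConjugate

universe u

variable {A : Type u} [CommGroup A] [Fintype A] {p : ℕ} [hp : Fact p.Prime] {a : ℕ}

/-- The subgroups of order `p`. -/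
noncomputable def atoms (A : Type u) [CommGroup A] [Fintype A] (p : ℕ) : Finset (Subgroup A) :=
  Finset.univ.filter fun Z => Nat.card Z = p

/-- The signed power. -/
noncomputable def sgnPow {R : Type*} [Inv R] {α : Type*} (S : Finset α) (z : R) : R :=
  if Odd S.card then z else z⁻¹

/-- The product of the signed powers over the nonempty sets of minimal subgroups. -/
noncomputable def incExc (p : ℕ) (g : Finset (Subgroup A) → A → ℂ) : A → ℂ :=
  fun x => ∏ S ∈ (atoms A p).powerset.erase ∅, sgnPow S (g S x)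

theorem exists_atom_le (hn : Nat.card A = p ^ a) {x : A} (hx : x ≠ 1) :
    ∃ Z ∈ atoms A p, Z ≤ Subgroup.zpowers x := by
  obtain ⟨k, -, hk⟩ := (Nat.dvd_prime_pow hp.out).1 (hn ▸ orderOf_dvd_natCard x)
  have hk0 : k ≠ 0 := fun h => hx (orderOf_eq_one_iff.1 (by rw [hk, h, pow_zero]))
  refine ⟨Subgroup.zpowers (x ^ p ^ (k - 1)), Finset.mem_filter.2 ⟨Finset.mem_univ _, ?_⟩,
    Subgroup.zpowers_le.2 (Subgroup.pow_mem _ (Subgroup.mem_zpowers x) _)⟩
  rw [Nat.card_zpowers, orderOf_pow' _ (pow_ne_zero _ hp.out.ne_zero), hk,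
    Nat.gcd_eq_right (pow_dvd_pow p (Nat.sub_le k 1)), Nat.pow_div (Nat.sub_le k 1) hp.out.pos,
    show k - (k - 1) = 1 by omega, pow_one]

theorem sup_ne_bot {S : Finset (Subgroup A)} (hS : S ∈ (atoms A p).powerset.erase ∅) :
    S.sup id ≠ ⊥ := by
  obtain ⟨hne, hsub⟩ := Finset.mem_erase.1 hS
  obtain ⟨Z, hZ⟩ := Finset.nonempty_iff_ne_empty.2 hne
  intro h
  have hle : Z ≤ ⊥ := h ▸ Finset.le_sup (f := id) hZ
  have h1 := (Finset.mem_filter.1 (Finset.mem_powerset.1 hsub hZ)).2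
  rw [le_bot_iff.1 hle, Subgroup.card_bot] at h1
  exact hp.out.one_lt.ne h1

/-- The inclusion-exclusion identity. -/
theorem prod_sgnPow (hn : Nat.card A = p ^ a) {x : A} (hx : x ≠ 1) (m : Subgroup A → ℂ)
    (hm : ∀ R, R ≠ ⊥ → m R ≠ 0) :
    ∏ S ∈ (atoms A p).powerset.erase ∅, sgnPow S (m (S.sup id ⊔ Subgroup.zpowers x)) =
      m (Subgroup.zpowers x) := by
  obtain ⟨Z, hZ, hZx⟩ := exists_atom_le hn hx
  set F : Finset (Subgroup A) → ℂ := fun S => sgnPow S (m (S.sup id ⊔ Subgroup.zpowers x)) with hF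
  set T : Finset (Subgroup A) → Finset (Subgroup A) :=
    fun S => if Z ∈ S then S.erase Z else insert Z S
  have hne : ∀ S : Finset (Subgroup A), m (S.sup id ⊔ Subgroup.zpowers x) ≠ 0 := fun S =>
    hm _ fun h => hx (Subgroup.zpowers_eq_bot.1 (le_bot_iff.1 (h ▸ le_sup_right)))
  have hsame : ∀ S : Finset (Subgroup A),
      (insert Z S).sup id ⊔ Subgroup.zpowers x = S.sup id ⊔ Subgroup.zpowers x := fun S => by
    rw [Finset.sup_insert, id_eq, sup_assoc]
    exact sup_eq_right.2 (hZx.trans le_sup_right)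
  have hins : ∀ S : Finset (Subgroup A), Z ∉ S → F S * F (insert Z S) = 1 := by
    intro S hS
    simp only [hF, sgnPow, hsame, Finset.card_insert_of_notMem hS, Nat.odd_add_one]
    by_cases ho : Odd S.card
    · simp [ho, mul_inv_cancel₀ (hne S)]
    · simp [ho, inv_mul_cancel₀ (hne S)]
  have hall : ∏ S ∈ (atoms A p).powerset, F S = 1 := by
    refine Finset.prod_involution (fun S _ => T S) (fun S _ => ?_) (fun S _ _ => ?_) (fun S hS => ?_)
      (fun S _ => ?_)
    · by_cases h : Z ∈ S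
      · simp only [T, if_pos h]
        have := hins (S.erase Z) (Finset.notMem_erase Z S)
        rwa [Finset.insert_erase h, mul_comm] at this
      · simp only [T, if_neg h]
        exact hins S h
    · by_cases h : Z ∈ S <;> simp only [T, h, if_true, if_false]
      · exact fun he => Finset.notMem_erase Z S (he.symm ▸ h)
      · exact fun he => h (he ▸ Finset.mem_insert_self Z S)
    · rw [Finset.mem_powerset] at hS ⊢
      by_cases h : Z ∈ S <;> simp only [T, h, if_true, if_false]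
      · exact (Finset.erase_subset _ _).trans hS
      · exact Finset.insert_subset hZ hS
    · by_cases h : Z ∈ S <;> simp [T, h]
  rw [← Finset.mul_prod_erase _ _ (Finset.empty_mem_powerset _)] at hall
  have h0 : F ∅ = (m (Subgroup.zpowers x))⁻¹ := by simp [hF, sgnPow]
  rw [h0, inv_mul_eq_one₀ (by simpa using hne ∅)] at hall
  exact hall.symm

/-- The properties of the inclusion-exclusion product. -/
theorem incExc_spec (hn : Nat.card A = p ^ a) (g : Finset (Subgroup A) → A → ℂ)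
    (m : Subgroup A → ℕ) (hm : ∀ R, R ≠ ⊥ → ¬ p ∣ m R)
    (hgz : ∀ S ∈ (atoms A p).powerset.erase ∅, g S ∈ zChar A ∧
      ∃ c : ℤ, g S 1 = (c : ℂ) ∧ ¬ (p : ℤ) ∣ c)
    (hgv : ∀ S ∈ (atoms A p).powerset.erase ∅, ∀ x, x ≠ 1 → ∃ ρ : ℂ, IsIntegral ℤ ρ ∧
      ρ * conj ρ = 1 ∧ g S x = ρ * (m (S.sup id ⊔ Subgroup.zpowers x) : ℂ)) :
    incExc p g ∈ qChar A ∧ (∀ x, incExc p g x ≠ 0) ∧
      GoodUnit p (fun x => (incExc p g x)⁻¹) ∧
      ∀ x, x ≠ 1 → ∃ ρ : ℂ, IsIntegral ℤ ρ ∧ ρ * conj ρ = 1 ∧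
        (m (Subgroup.zpowers x) : ℂ) * (incExc p g x)⁻¹ = ρ := by
  set s := (atoms A p).powerset.erase ∅
  have hm0 : ∀ R, R ≠ ⊥ → (m R : ℂ) ≠ 0 := fun R hR =>
    Nat.cast_ne_zero.2 fun h => hm R hR (h ▸ dvd_zero p)
  have hbot : ∀ (S : Finset (Subgroup A)) (x : A), x ≠ 1 → S.sup id ⊔ Subgroup.zpowers x ≠ ⊥ :=
    fun S x hx h => hx (Subgroup.zpowers_eq_bot.1 (le_bot_iff.1 (h ▸ le_sup_right)))
  have hg0 : ∀ S ∈ s, ∀ x, g S x ≠ 0 := by
    intro S hS x
    by_cases hx : x = 1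
    · obtain ⟨c, hc, hpc⟩ := (hgz S hS).2
      rw [hx, hc, Int.cast_ne_zero]
      exact fun h => hpc (h ▸ dvd_zero _)
    · obtain ⟨ρ, -, hρ, e⟩ := hgv S hS x hx
      rw [e]
      exact mul_ne_zero (left_ne_zero_of_mul (hρ ▸ one_ne_zero)) (hm0 _ (hbot S x hx))
  have hne : ∀ x, incExc p g x ≠ 0 := fun x => Finset.prod_ne_zero_iff.2 fun S hS => by
    unfold sgnPow
    split_ifs
    · exact hg0 S hS x
    · exact inv_ne_zero (hg0 S hS x)
  have heq : incExc p g = ∏ S ∈ s, fun x => sgnPow S (g S x) := by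
    funext x; rw [Finset.prod_apply]; rfl
  have hq : incExc p g ∈ qChar A := by
    rw [heq]
    refine prod_mem fun S hS => ?_
    unfold sgnPow
    by_cases ho : Odd S.card
    · simp only [ho, if_true]; exact zChar_le_qChar (hgz S hS).1
    · simp only [ho, if_false]
      exact inv_mem_qChar (zChar_le_qChar (hgz S hS).1) (hg0 S hS)
  have hgu : ∀ S ∈ s, GoodUnit p (g S) ∧ GoodUnit p (fun x => (g S x)⁻¹) := by
    intro S hS
    have h1 : GoodUnit p (g S) := ⟨g S, (hgz S hS).1, (hgz S hS).2, Cong.refl _⟩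
    refine ⟨h1, h1.inv hn (fun x _ => hg0 S hS x) fun x hx => ?_⟩
    obtain ⟨ρ, hρi, hρ, e⟩ := hgv S hS x hx
    rw [e, mul_inv, inv_eq_of_mul_eq_one_right hρ]
    refine mul_mem (mem_pInt_of_isIntegral hp.out (hρi.map (starRingEnd ℂ).toIntAlgHom))
      ⟨m (S.sup id ⊔ Subgroup.zpowers x), hm _ (hbot S x hx), ?_⟩
    rw [mul_inv_cancel₀ (hm0 _ (hbot S x hx))]
    exact isIntegral_one
  have hinv : GoodUnit p (fun x => (incExc p g x)⁻¹) := by
    have e : (fun x => (incExc p g x)⁻¹) = ∏ S ∈ s, fun x => (sgnPow S (g S x))⁻¹ := by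
      funext x; rw [Finset.prod_apply]; exact (Finset.prod_inv_distrib _).symm
    rw [e]
    refine GoodUnit.prod s fun S hS => ?_
    unfold sgnPow
    by_cases ho : Odd S.card
    · simp only [ho, if_true]; exact (hgu S hS).2
    · simp only [ho, if_false, inv_inv]; exact (hgu S hS).1
  refine ⟨hq, hne, hinv, fun x hx => ?_⟩
  choose! ρ hρi hρ hρe using fun S (hS : S ∈ s) => hgv S hS x hx
  have hsp : ∀ S ∈ s, sgnPow S (g S x) =
      (if Odd S.card then ρ S else conj (ρ S)) *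
        sgnPow S (m (S.sup id ⊔ Subgroup.zpowers x) : ℂ) := by
    intro S hS
    unfold sgnPow
    rw [hρe S hS]
    split_ifs
    · rfl
    · rw [mul_inv, inv_eq_of_mul_eq_one_right (hρ S hS)]
  have hW : incExc p g x = (∏ S ∈ s, if Odd S.card then ρ S else conj (ρ S)) *
      (m (Subgroup.zpowers x) : ℂ) := by
    rw [← prod_sgnPow hn hx (fun R => (m R : ℂ)) hm0, ← Finset.prod_mul_distrib]
    exact Finset.prod_congr rfl hsp
  set π := ∏ S ∈ s, if Odd S.card then ρ S else conj (ρ S)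
  have hπ : π * conj π = 1 := by
    rw [map_prod, ← Finset.prod_mul_distrib]
    refine Finset.prod_eq_one fun S hS => ?_
    split_ifs
    · exact hρ S hS
    · rw [Complex.conj_conj, mul_comm]; exact hρ S hS
  refine ⟨conj π, ?_, by rw [Complex.conj_conj, mul_comm]; exact hπ, ?_⟩
  · refine IsIntegral.map (starRingEnd ℂ).toIntAlgHom (IsIntegral.prod _ fun S hS => ?_)
    split_ifs
    · exact hρi S hS
    · exact (hρi S hS).map (starRingEnd ℂ).toIntAlgHom
  · rw [hW, mul_inv, inv_eq_of_mul_eq_one_right hπ,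
      mul_comm (conj π), ← mul_assoc, mul_inv_cancel₀ (hm0 _ fun h => hx (Subgroup.zpowers_eq_bot.1 h)),
      one_mul]

theorem Cong.comp {H F : A → ℂ} (h : Cong p H F) (φ : MulAut A) : Cong p (H ∘ φ) (F ∘ φ) :=
  fun x hx => h (φ x) fun e => hx (φ.injective (e.trans (map_one φ).symm))

/-- A family of functions with a common phase can be made invariant. -/
theorem exists_invariant {ι : Type*} (hn : Nat.card A = p ^ a) (ha : a ≠ 0)
    (E : Subgroup (MulAut A)) (hcop : ¬ p ∣ Nat.card E) (d h : ι → A → ℂ) (Φ : A → ℂ)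
    (hd : ∀ φ ∈ E, ∀ i, ∀ x, x ≠ 1 → d i (φ x) = d i x)
    (hval : ∀ i, ∀ x, x ≠ 1 → h i x = d i x * Φ x)
    (hΦ : ∀ x, x ≠ 1 → IsIntegral ℤ (Φ x) ∧ Φ x * conj (Φ x) = 1)
    (hq : ∀ i, h i ∈ qChar A) (hg : ∀ i, Good p (h i))
    {i₀ : ι} (h0 : ∀ x, h i₀ x ≠ 0) (hu0 : GoodUnit p (h i₀)) :
    ∃ (h' : ι → A → ℂ) (Φ' : A → ℂ), (∀ i, h' i ∈ qChar A ∧ Good p (h' i)) ∧
      (∀ x, x ≠ 1 → IsIntegral ℤ (Φ' x) ∧ Φ' x * conj (Φ' x) = 1) ∧
      (∀ i, ∀ x, x ≠ 1 → h' i x = d i x * Φ' x) ∧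
      ∀ φ ∈ E, ∀ x, x ≠ 1 → Φ' (φ x) = Φ' x := by
  haveI : Fintype E := Fintype.ofFinite E
  set n := Nat.card A
  set e := Nat.card E
  have hne1 : ∀ (φ : MulAut A) (x : A), x ≠ 1 → φ x ≠ 1 := fun φ x hx hh =>
    hx (φ.injective (hh.trans (map_one φ).symm))
  set u : E → A → ℂ := fun φ x => h i₀ ((φ : MulAut A) x) * (h i₀ x)⁻¹ with hu
  have huval : ∀ (φ : E) (x : A), x ≠ 1 → u φ x = Φ ((φ : MulAut A) x) * conj (Φ x) := by
    intro φ x hx
    simp only [hu]
    have h0x := h0 x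
    rw [hval _ x hx] at h0x
    rw [hval _ x hx, hval _ _ (hne1 _ x hx), hd _ φ.2 _ x hx, mul_inv,
      inv_eq_of_mul_eq_one_right (hΦ x hx).2]
    field_simp [left_ne_zero_of_mul h0x]
  have huint : ∀ (φ : E) (x : A), x ≠ 1 → IsIntegral ℤ (u φ x) ∧ u φ x * conj (u φ x) = 1 := by
    intro φ x hx
    rw [huval φ x hx]
    refine ⟨(hΦ _ (hne1 _ x hx)).1.mul ((hΦ x hx).1.map (starRingEnd ℂ).toIntAlgHom), ?_⟩
    rw [map_mul, Complex.conj_conj]
    linear_combination (Φ ((φ : MulAut A) x) * conj (Φ ((φ : MulAut A) x))) * (hΦ x hx).2 +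
      (hΦ _ (hne1 (φ : MulAut A) x hx)).2
  have huq : ∀ φ : E, u φ ∈ qChar A := fun φ =>
    mul_mem (comp_mem_qChar (hq i₀) (φ : MulAut A).toMonoidHom) (inv_mem_qChar (hq i₀) h0)
  obtain ⟨F, hF, ⟨c, hc, hpc⟩, hcg⟩ := hu0
  obtain ⟨r, hr⟩ := exists_pow_sub_one hn ⟨F, hF⟩ hc hpc
  set L := n * (p - 1) * n with hL
  have hL0 : L ≠ 0 := Nat.mul_ne_zero (Nat.mul_ne_zero Nat.card_pos.ne'
    (Nat.sub_ne_zero_of_lt hp.out.one_lt)) Nat.card_pos.ne'
  -- the quotients are good units with augmentation one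
  have hrep : ∀ φ : E, ∃ F' ∈ zChar A, ∃ c' : ℤ, F' 1 = (c' : ℂ) ∧ (p : ℤ) ∣ c' - 1 ∧
      Cong p (u φ) F' := by
    intro φ
    refine ⟨(F ∘ (φ : MulAut A)) * F ^ (L - 1),
      mul_mem (comp_mem_zChar hF (φ : MulAut A).toMonoidHom) (pow_mem hF _), c ^ L, ?_, ?_, ?_⟩
    · simp only [Pi.mul_apply, Pi.pow_apply, Function.comp_apply, map_one, hc, Int.cast_pow]
      rw [← pow_succ', Nat.sub_add_cancel (by omega)]
    · have h1 := congrFun (congrArg Subtype.val hr) 1
      simp only [AddSubgroupClass.coe_sub, SubmonoidClass.coe_pow, OneMemClass.coe_one,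
        Pi.sub_apply, Pi.pow_apply, Pi.one_apply, hc, MulMemClass.coe_mul, Pi.mul_apply] at h1
      obtain ⟨c1, hc1⟩ := exists_int_one r.2
      rw [hc1] at h1
      simp only [SubringClass.coe_natCast, Pi.natCast_apply] at h1
      refine ⟨(n : ℤ) * c1, ?_⟩
      have h2 : ((c ^ L - 1 : ℤ) : ℂ) = (((p : ℤ) * ((n : ℤ) * c1) : ℤ) : ℂ) := by
        push_cast at h1 ⊢
        linear_combination h1
      exact_mod_cast h2
    · intro x hx
      obtain ⟨w, hw, he⟩ := hcg x hx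
      obtain ⟨w', hw', he'⟩ := hcg ((φ : MulAut A) x) (hne1 _ x hx)
      have hr' : F x ^ L - 1 = ((p * n : ℕ) : ℂ) * (r : A → ℂ) x := by
        have h1 := congrFun (congrArg Subtype.val hr) x
        simp only [AddSubgroupClass.coe_sub, SubmonoidClass.coe_pow, OneMemClass.coe_one,
          Pi.sub_apply, Pi.pow_apply, Pi.one_apply, MulMemClass.coe_mul, Pi.mul_apply,
          SubringClass.coe_natCast, Pi.natCast_apply] at h1
        exact h1
      have hmul : u φ x * h i₀ x = h i₀ ((φ : MulAut A) x) := by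
        simp only [hu]; rw [mul_assoc, inv_mul_cancel₀ (h0 x), mul_one]
      refine ⟨w' * F x ^ (L - 1) - u φ x * (w * F x ^ (L - 1)) - u φ x * ((p : ℂ) * (r : A → ℂ) x),
        ?_, ?_⟩
      · have hFx := pow_mem (mem_pInt_of_isIntegral hp.out (isIntegral_zChar hF x)) (L - 1)
        have hux := mem_pInt_of_isIntegral hp.out (huint φ x hx).1
        exact sub_mem (sub_mem (mul_mem hw' hFx) (mul_mem hux (mul_mem hw hFx)))
          (mul_mem hux (mul_mem (natCast_mem _ _)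
            (mem_pInt_of_isIntegral hp.out (isIntegral_zChar r.2 x))))
      · have hpow : F x ^ L = F x * F x ^ (L - 1) := by
          rw [← pow_succ', Nat.sub_add_cancel (by omega)]
        rw [hpow, Nat.cast_mul] at hr'
        simp only [Pi.mul_apply, Pi.pow_apply, Function.comp_apply]
        linear_combination F x ^ (L - 1) * he' - u φ x * F x ^ (L - 1) * he +
          F x ^ (L - 1) * hmul - u φ x * hr'
  have hpow1 : ∀ (φ : E) (x : A), x ≠ 1 → u φ x ^ (n * n) = 1 := by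
    intro φ x hx
    obtain ⟨F', hF', c', hc', hpc', hcg'⟩ := hrep φ
    exact pow_eq_one_of_goodUnit hn ha hF' hc' hpc' hcg' (huq φ) hx (huint φ x hx).1 (huint φ x hx).2
  have hgu : ∀ φ : E, GoodUnit p (u φ) := by
    intro φ
    obtain ⟨F', hF', c', hc', hpc', hcg'⟩ := hrep φ
    refine ⟨F', hF', ⟨c', hc', fun h => (Nat.prime_iff_prime_int.1 hp.out).not_dvd_one ?_⟩, hcg'⟩
    simpa using dvd_sub h hpc'
  -- the exponent
  obtain ⟨j, hj⟩ : ∃ j : ℕ, j * e ≡ 1 [MOD n * n] := by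
    have hc : Nat.Coprime e (n * n) := by
      rw [show n * n = p ^ (a + a) by rw [pow_add, ← hn]]
      exact Nat.Coprime.pow_right _ ((hp.out.coprime_iff_not_dvd.2 hcop).symm)
    obtain ⟨j, hj⟩ := Nat.exists_mul_mod_eq_one_of_coprime hc (by
      rw [show n * n = p ^ (a + a) by rw [pow_add, ← hn]]
      exact Nat.one_lt_pow (by omega) hp.out.one_lt)
    refine ⟨j, ?_⟩
    rw [Nat.ModEq, mul_comm, hj.2, Nat.mod_eq_of_lt]
    rw [show n * n = p ^ (a + a) by rw [pow_add, ← hn]]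
    exact Nat.one_lt_pow (by omega) hp.out.one_lt
  set π : A → ℂ := (∏ φ : E, u φ) ^ j with hπ
  have hπg : GoodUnit p π := (GoodUnit.prod _ fun φ _ => hgu φ).pow j
  have hπq : π ∈ qChar A := pow_mem (prod_mem fun φ _ => huq φ) _
  have hπv : ∀ x, x ≠ 1 → IsIntegral ℤ (π x) ∧ π x * conj (π x) = 1 := by
    intro x hx
    simp only [hπ, Pi.pow_apply, Finset.prod_apply]
    refine ⟨(IsIntegral.prod _ fun φ _ => (huint φ x hx).1).pow _, ?_⟩
    rw [map_pow, ← mul_pow, map_prod, ← Finset.prod_mul_distrib,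
      Finset.prod_eq_one fun φ _ => (huint φ x hx).2, one_pow]
  refine ⟨fun i => h i * π, Φ * π, fun i => ⟨mul_mem (hq i) hπq, (hg i).mul hπg.good⟩,
    fun x hx => ⟨(hΦ x hx).1.mul (hπv x hx).1, ?_⟩, fun i x hx => ?_, fun φ hφ x hx => ?_⟩
  · simp only [Pi.mul_apply, map_mul]
    linear_combination (π x * conj (π x)) * (hΦ x hx).2 + (hπv x hx).2
  · simp only [Pi.mul_apply, hval i x hx]; ring
  · simp only [Pi.mul_apply, hπ, Pi.pow_apply, Finset.prod_apply]
    have hx' := hne1 φ x hx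
    have hu1 : u ⟨φ, hφ⟩ x ^ (j * e) = u ⟨φ, hφ⟩ x := by
      obtain ⟨q, hq'⟩ : ∃ q, j * e = 1 + n * n * q := by
        have h2 : (j * e) % (n * n) = 1 := by
          rw [hj]
          refine Nat.mod_eq_of_lt ?_
          rw [show n * n = p ^ (a + a) by rw [pow_add, ← hn]]
          exact Nat.one_lt_pow (by omega) hp.out.one_lt
        exact ⟨(j * e) / (n * n), by rw [← h2]; exact (Nat.mod_add_div _ _).symm⟩
      rw [hq', pow_add, pow_one, pow_mul, hpow1 _ x hx, one_pow, mul_one]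
    have hcoc : ∀ ψ : E, u ψ (φ x) * u ⟨φ, hφ⟩ x = u (ψ * ⟨φ, hφ⟩) x := by
      intro ψ
      simp only [hu, Subgroup.coe_mul, MulAut.mul_apply]
      have := h0 (φ x)
      have := h0 x
      field_simp
    have hprod : (∏ ψ : E, u ψ (φ x)) * u ⟨φ, hφ⟩ x ^ e = ∏ ψ : E, u ψ x := by
      rw [show e = Fintype.card E from Nat.card_eq_fintype_card, ← Finset.card_univ,
        ← Finset.prod_const, ← Finset.prod_mul_distrib]
      exact Fintype.prod_equiv (Equiv.mulRight (⟨φ, hφ⟩ : E)) _ _ fun ψ => hcoc ψ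
    have hΦφ : Φ (φ x) = u ⟨φ, hφ⟩ x * Φ x := by
      rw [huval _ x hx]
      linear_combination -Φ (φ x) * (hΦ x hx).2
    rw [← hprod, mul_pow, ← pow_mul, mul_comm e j, hu1, hΦφ]
    ring

end CfsgLib.FreeInertial
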