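import Cfsg.Agent.Lib.CyclicBlock.Lattice

/-!
# The lattice with Gram matrix `e + δ` for small `e`
-/

set_option autoImplicit false

namespace CfsgLib.FreeInertial

open CfsgLib.CyclicBlock

variable {ι : Type*} [Fintype ι] [DecidableEq ι] {m : ℕ} {e : ℤ} (C : Fin m → ι → ℤ) (d : ι → ℤ)

/-- For `e ≤ 3` the bound is attained unless `(e, m)` is one of three pairs. -/
theorem card_eq_of_small (hm : 0 < m)
    (hgram : ∀ i j, ∑ x, C i x * C j x = e + if i = j then 1 else 0)
    (hdeg : ∀ i, ∑ x, C i x * d x = 0) (hd : ∀ x, 0 < d x) (hmeet : ∀ x, ∃ i, C i x ≠ 0)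
    (he : 1 ≤ e) (he3 : e ≤ 3) (hlt : m < Fintype.card ι) :
    (Fintype.card ι : ℤ) = m + e ∨ (e = 2 ∧ m = 3) ∨ (e = 3 ∧ m = 4) ∨ (e = 3 ∧ m = 3) := by
  obtain ⟨ψ, σ, hψ, hσ, hC, hpos⟩ := exists_star C d hm hgram hdeg hd hmeet (by omega)
  set o : Fin m := ⟨0, hm⟩
  set R : ι → ℤ := fun x => C o x - σ * (if x = ψ o then 1 else 0) with hR
  have hCR : ∀ i x, C i x = σ * (if x = ψ i then 1 else 0) + R x := fun i x => by
    have h := hC i o x
    simp only [hR]
    linarith
  have hσσ : σ * σ = 1 := by rcases hσ with rfl | rfl <;> rfl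
  -- the common value on the exceptional coordinates
  have hRψ : ∀ k, R (ψ k) = R (ψ o) := by
    intro k
    rcases eq_or_ne k o with rfl | hk
    · rfl
    have h : ∑ x, C o x * (C o x - C k x) = 1 := by
      simp only [mul_sub, Finset.sum_sub_distrib, hgram, ↓reduceIte, if_neg (Ne.symm hk)]
      ring
    simp only [hC o k, mul_sub, Finset.sum_sub_distrib, mul_ite, mul_one, mul_zero,
      Finset.sum_ite_eq', Finset.mem_univ, if_true] at h
    rw [hCR o (ψ o), hCR o (ψ k), if_pos rfl, if_neg (fun h' => hk (hψ h'))] at h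
    rcases hσ with rfl | rfl <;> linarith
  set r := R (ψ o) with hr
  set out := Finset.univ.filter fun x => x ∉ Set.range ψ with hout
  have hin : Finset.univ.filter (fun x => ¬ x ∉ Set.range ψ) = Finset.univ.image ψ := by
    ext x; simp [eq_comm]
  have hout0 : ∀ x ∈ out, R x ≠ 0 := by
    intro x hx h0
    obtain ⟨i, hi⟩ := hmeet x
    rw [hCR, if_neg (fun h => (Finset.mem_filter.1 hx).2 ⟨i, h.symm⟩), h0] at hi
    simp at hi
  have hnorm : e = 2 * σ * r + m * (r * r) + ∑ x ∈ out, R x * R x := by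
    have h := hgram o o
    rw [if_pos rfl] at h
    have h1 : ∀ x, C o x * C o x = (if x = ψ o then σ * σ + 2 * σ * R x else 0) + R x * R x := by
      intro x; rw [hCR o x]; split_ifs <;> ring
    have h2 : ∑ x ∈ Finset.univ.image ψ, R x * R x = (m : ℤ) * (r * r) := by
      rw [Finset.sum_image (fun _ _ _ _ h => hψ h),
        Finset.sum_congr rfl fun (k : Fin m) _ => show R (ψ k) * R (ψ k) = r * r by rw [hRψ k],
        Finset.sum_const, Finset.card_univ, Fintype.card_fin, nsmul_eq_mul]
    rw [Finset.sum_congr rfl fun x _ => h1 x, Finset.sum_add_distrib, Finset.sum_ite_eq',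
      if_pos (Finset.mem_univ _), ← Finset.sum_filter_add_sum_filter_not Finset.univ
        (fun x => x ∉ Set.range ψ) fun x => R x * R x, hin, h2, hσσ] at h
    linarith
  have hcard : (Fintype.card ι : ℤ) = m + out.card := by
    have h := Finset.card_filter_add_card_filter_not (s := Finset.univ)
      (fun x => x ∉ Set.range ψ)
    rw [hin, Finset.card_image_of_injective _ hψ, Finset.card_univ, Finset.card_univ,
      Fintype.card_fin, ← hout] at h
    omega
  have hpos' : 1 ≤ out.card := by omega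
  set ρ := σ * r with hρ
  have hf : 2 * σ * r + m * (r * r) = 2 * ρ + m * (ρ * ρ) := by
    rw [hρ]; linear_combination -(m * r * r) * hσσ
  rw [hf] at hnorm
  have hsq : ∀ x ∈ out, (1 : ℤ) ≤ R x * R x := fun x hx => by
    have := mul_self_pos.2 (hout0 x hx); omega
  have hsum : (out.card : ℤ) ≤ ∑ x ∈ out, R x * R x := by
    simpa using Finset.sum_le_sum hsq
  have hρ1 : m = 1 → 0 ≤ ρ := fun h1 => by
    have h2 := hpos h1
    rw [hCR, if_pos rfl, ← hr] at h2
    rw [hρ]
    nlinarith
  -- the squares are at most three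
  have hf0 : 0 ≤ 2 * ρ + m * (ρ * ρ) := by
    rcases eq_or_ne m 1 with h1 | h1
    · have := hρ1 h1; nlinarith
    · have hm2 : (2 : ℤ) ≤ m := by omega
      rcases le_or_gt 0 ρ with h | h <;> nlinarith
  have hR1 : ∀ x ∈ out, R x * R x = 1 := by
    intro x hx
    have h1 : R x * R x ≤ ∑ y ∈ out, R y * R y :=
      Finset.single_le_sum (f := fun y => R y * R y) (fun y _ => mul_self_nonneg (R y)) hx
    have h2 : R x * R x ≤ 3 := by linarith
    have h3 : R x < 2 := by nlinarith
    have h4 : -2 < R x := by nlinarith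
    rcases (show R x = 1 ∨ R x = -1 by have := hout0 x hx; omega) with h | h <;> rw [h] <;> rfl
  rw [Finset.sum_congr rfl hR1, Finset.sum_const, nsmul_eq_mul, mul_one] at hnorm
  have hf2 : 2 * ρ + m * (ρ * ρ) ≤ 2 := by omega
  have hρb : -2 ≤ ρ ∧ ρ ≤ 1 := by
    have hm1 : (1 : ℤ) ≤ m := by omega
    constructor
    · rcases eq_or_ne m 1 with h1 | h1
      · have := hρ1 h1; omega
      · have hm2 : (2 : ℤ) ≤ m := by omega
        nlinarith
    · nlinarith
  obtain ⟨hl, hu⟩ := hρb
  interval_cases ρ <;> omega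

end CfsgLib.FreeInertial
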