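import Cfsg.Agent.Lib.FreeInertial.Sub
import Cfsg.Agent.Lib.FreeInertial.Invariant
import Cfsg.Agent.Lib.FreeInertial.Lattice
import Cfsg.Agent.Lib.CyclicBlock.Main

/-!
# Blocks with abelian defect group and free inertial quotient

Such a block has at most `e + (n - 1) / e` characters, `n` being the order of the defect group and
`e` the inertial index, and rank at most `e`; for `e ≤ 3` both bounds are attained.
-/

set_option autoImplicit false
set_option linter.unusedSectionVars false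
set_option linter.style.haveILetI false

namespace CfsgLib.FreeInertial

open Cfsg MonoidAlgebra CfsgLib.Blocks CfsgLib.BrauerPairs CfsgLib.BPStar CfsgLib.Characters
open scoped Classical ComplexConjugate

universe u

variable {p : ℕ} [hp : Fact p.Prime] {M : Ideal AlgInt} [M.IsMaximal]
variable {G : Type u} [Group G] [Fintype G]
variable {B : Set (IrrCharacter G)} {P : Subgroup G}
variable {e : Set (IrrCharacter (Subgroup.centralizer (P : Set G)))}
variable {hM : IsPModular p M}

/-- Only the centraliser of `P` in the stabiliser of the maximal pair fixes a nontrivial element. -/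
def Free (hM : IsPModular p M) (P : Subgroup G)
    (e : Set (IrrCharacter (Subgroup.centralizer (P : Set G)))) : Prop :=
  ∀ t ∈ pairStab P (eA hM (cz P) e), ∀ x ∈ P, x ≠ (1 : G) → t * x * t⁻¹ = x → t ∈ cz P

theorem Free.secNil (hf : Free hM P e) {x : P} (hx : x ≠ 1) : SecNil hM P e x :=
  fun t ht h => hf t ht x x.2 (fun h1 => hx (Subtype.ext h1)) h

/-- A generalised character with a value a root times a multiple of `p` has augmentation divisible
by `p`. -/
theorem not_dvd_of_zChar {A : Type u} [CommGroup A] [Fintype A] {a : ℕ}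
    (hn : Nat.card A = p ^ a) {F : A → ℂ} (hF : F ∈ zChar A) {c : ℤ} (hc : F 1 = (c : ℂ))
    (hpc : ¬ (p : ℤ) ∣ c) {x : A} {d : ℂ} {N : ℕ} (hd : IsIntegral ℤ d) (hx : F x = d * (N : ℂ)) :
    ¬ p ∣ N := by
  intro hN
  obtain ⟨r, hr⟩ := dvd_pow_sub_one hn ⟨F, hF⟩ hc
  have h1 : F x ^ Nat.card A - (c : ℂ) = (p : ℂ) * (r : A → ℂ) x := by
    have h2 := congrFun (congrArg Subtype.val hr) x
    simp only [AddSubgroupClass.coe_sub, SubmonoidClass.coe_pow, Pi.sub_apply, Pi.pow_apply,
      SubringClass.coe_intCast, Pi.intCast_apply, MulMemClass.coe_mul, Pi.mul_apply,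
      SubringClass.coe_natCast, Pi.natCast_apply] at h2
    exact h2
  obtain ⟨q, rfl⟩ := hN
  obtain ⟨b, hb⟩ : ∃ b, Nat.card A = b + 1 := ⟨Nat.card A - 1, by
    have := Nat.card_pos (α := A); omega⟩
  have h3 : ((c : ℚ) / (p : ℚ) : ℂ) = d ^ (b + 1) * ((p * q : ℕ) : ℂ) ^ b * (q : ℂ) -
      (r : A → ℂ) x := by
    rw [hx, hb] at h1
    have hp0 : (p : ℂ) ≠ 0 := Nat.cast_ne_zero.2 hp.out.ne_zero
    push_cast at h1 ⊢
    field_simp
    linear_combination -h1
  have h4 : IsIntegral ℤ (algebraMap ℚ ℂ ((c : ℚ) / (p : ℚ))) := by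
    rw [show algebraMap ℚ ℂ ((c : ℚ) / (p : ℚ)) = ((c : ℚ) : ℂ) / ((p : ℚ) : ℂ) by simp, h3]
    exact (((hd.pow _).mul ((isIntegral_algebraMap (R := ℤ) (x := ((p * q : ℕ) : ℤ))).pow _)).mul
      (isIntegral_algebraMap (R := ℤ) (x := (q : ℤ)))).sub (isIntegral_zChar r.2 x)
  obtain ⟨z, hz⟩ := IsIntegrallyClosed.isIntegral_iff.1
    ((isIntegral_algebraMap_iff (algebraMap ℚ ℂ).injective).1 h4)
  refine hpc ⟨z, ?_⟩
  have h5 : (c : ℚ) = (p : ℚ) * (z : ℚ) := by
    rw [show (z : ℚ) = (c : ℚ) / (p : ℚ) from hz]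
    field_simp [Nat.cast_ne_zero.2 hp.out.ne_zero]
  exact_mod_cast h5

variable (c : AbCtx hM B P e)
include c

/-- The degrees are equal on an orbit. -/
theorem secDeg_conj (hf : Free hM P e) {x y : P} (hx : x ≠ 1) {t : G}
    (ht : t ∈ pairStab P (eA hM (cz P) e)) (hty : t * (x : G) * t⁻¹ = y) :
    secDeg c y = secDeg c x := by
  have hy : y ≠ 1 := fun h => hx (Subtype.ext (conj_eq_one_iff.1 (hty.trans (by rw [h]; rfl))))
  have h1 := sum_dlt_self c (hf.secNil hy)
  rw [Finset.sum_congr (s₁ := Finset.univ.filter (· ∈ B)) rfl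
    fun χ _ => by rw [dlt_conj c ht hty χ], sum_dlt_self c (hf.secNil hx)] at h1
  have h2 := mul_left_cancel₀ (Nat.cast_ne_zero.2 Nat.card_pos.ne') h1
  have h3 : secDeg c x * secDeg c x = secDeg c y * secDeg c y := by exact_mod_cast h2
  exact (Nat.mul_self_inj.1 h3).symm

/-- An idempotent on which a character of height zero does not vanish. -/
theorem exists_src : ∃ (J : MonoidAlgebra (ResK M) G) (χ₀ : IrrCharacter G) (hχ₀ : χ₀ ∈ B),
    SrcIdem hM P e J ∧ phi hM (irr_isCharacter χ₀) J ≠ 0 := by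
  have := charP_res hM
  have hB := c.isPBlockB
  obtain ⟨χ₀, hχ₀, -, hv⟩ := Contribution.exists_height_zero hM hB
  have h0 : blockHeight p B (χ₀ : G → ℂ) = 0 := by
    rw [blockHeight, hv]; exact Nat.sub_self _
  have hD := (isDefectGroup_iff hM hB P).1 c.defect
  obtain ⟨j, f, hov, hj, hne, hjf, hjφ⟩ := exists_local_idem hM hB hD hχ₀ h0
  obtain ⟨-, -, hO⟩ := (isBrauerPairOf_iff hM B P e).1 c.hmax.1
  obtain ⟨n, ⟨-, hn⟩, hnf⟩ := (brSetup_block hM hB).exists_conj_eq hD hov hO
  refine ⟨conjA n (j : MonoidAlgebra (ResK M) G), χ₀, hχ₀, ⟨fun u hu => ?_, ?_, fun R hR => ?_⟩, ?_⟩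
  · have h := conjA_mem_fixAlg j.2.1 n
    rw [map_conj_eq_self hn] at h
    exact h u hu
  · rw [IsIdempotentElem, ← conjA_mul]
    exact congrArg _ (congrArg Subtype.val hj.idem.eq)
  · set R' := R.map (MulAut.conj n⁻¹).toMonoidHom with hR'
    have hR'P : R' ≤ P := by
      rw [hR', ← map_conj_eq_self (inv_mem hn)]
      exact Subgroup.map_mono hR
    have hback : R'.map (MulAut.conj n).toMonoidHom = R := by
      rw [hR', Subgroup.map_map, show (MulAut.conj n).toMonoidHom.comp
        (MulAut.conj n⁻¹).toMonoidHom = MonoidHom.id G from MonoidHom.ext fun y => by simp [mul_assoc],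
        Subgroup.map_id]
    obtain ⟨f', -, hle⟩ := exists_pairLE (p := p) (hasBlocks hM) hR'P c.pgroup hov.block
    have hloc := brMap_mul_of_pairLE (hasBlocks hM) (by rw [orderOf_one]; exact hM.1.not_dvd_one)
      c.pgroup (one_mem _) hj hne hov.block hjf hle
    have hle' := hle.conj n
    rw [show conjPair n (P, f) = (P, eA hM (cz P) e) from Prod.ext (map_conj_eq_self hn) hnf,
      show conjPair n (R', f') = (R, conjA n f') from Prod.ext hback rfl] at hle'
    rw [blkA_eq c hle', ← hback, ← conjA_brMap, ← conjA_mul, hloc]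
  · rw [phi_conjA]
    exact hjφ

/-- The bounds, the divisibility and the small cases. -/
theorem counts (hf : Free hM P e) {ee a : ℕ} (hn : Nat.card P = p ^ a) (ha : a ≠ 0)
    (he : (cz P).relIndex (pairStab P (eA hM (cz P) e)) = ee) :
    ∃ m : ℕ, 0 < m ∧ 0 < ee ∧ Nat.card P = ee * m + 1 ∧ Nat.card B = blockRank p B + m ∧
      blockRank p B ≤ ee ∧
      (ee ≤ 3 → blockRank p B = ee ∨ (ee = 2 ∧ m = 3) ∨ (ee = 3 ∧ m = 4) ∨ (ee = 3 ∧ m = 3)) := by
  have := charP_res hM
  set T := pairStab P (eA hM (cz P) e) with hT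
  have hcomm : ∀ x y : P, x * y = y * x := fun x y =>
    Subtype.ext (mem_cz.1 (c.comm y.2) x x.2)
  letI : CommGroup P := { (inferInstance : Group P) with mul_comm := hcomm }
  set n := Nat.card P with hndef
  have hnC : (n : ℂ) ≠ 0 := Nat.cast_ne_zero.2 Nat.card_pos.ne'
  -- the inertial group as automorphisms
  let φT : T →* MulAut P :=
    P.normalizerMonoidHom.comp (Subgroup.inclusion fun g (hg : g ∈ T) => hg.1)
  have hφ : ∀ (t : T) (x : P), ((φT t x : P) : G) = (t : G) * x * (t : G)⁻¹ := fun t x => rfl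
  set E := φT.range with hE
  haveI : Fintype E := Fintype.ofFinite E
  have hker : φT.ker = (cz P).subgroupOf T := by
    ext t
    rw [MonoidHom.mem_ker, Subgroup.mem_subgroupOf, mem_cz]
    constructor
    · intro h q hq
      have := congrArg Subtype.val (DFunLike.congr_fun h ⟨q, hq⟩)
      rw [hφ] at this
      exact (mul_inv_eq_iff_eq_mul.1 this).symm
    · intro h
      ext x
      rw [hφ]
      exact mul_inv_eq_iff_eq_mul.2 (h x x.2).symm
  have hEcard : Nat.card E = ee := by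
    rw [hE, ← Subgroup.index_ker, hker]; exact he
  have hee : 0 < ee := hEcard ▸ Nat.card_pos
  have hcop : ¬ p ∣ Nat.card E := by
    rw [hEcard, ← he]
    exact c.not_dvd_relIndex
  have hEfree : ∀ φ ∈ E, ∀ x : P, x ≠ 1 → φ x = x → φ = 1 := by
    rintro _ ⟨t, rfl⟩ x hx h
    have h1 : (t : G) * x * (t : G)⁻¹ = x := congrArg Subtype.val h
    have h2 := hf t t.2 x x.2 (fun h' => hx (Subtype.ext h')) h1
    exact MonoidHom.mem_ker.1 (hker ▸ (Subgroup.mem_subgroupOf.2 h2 : t ∈ (cz P).subgroupOf T))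
  have hEne : ∀ (φ : MulAut P) (x : P), x ≠ 1 → φ x ≠ 1 := fun φ x hx hh =>
    hx (φ.injective (hh.trans (map_one φ).symm))
  -- the decomposition numbers
  have hdd : ∀ φ ∈ E, ∀ (χ : IrrCharacter G) (x : P), x ≠ 1 → dd c (φ x) χ = dd c x χ := by
    rintro _ ⟨t, rfl⟩ χ x hx
    rw [dd, dd, dlt_conj c t.2 (hφ t x).symm χ, secDeg_conj c hf hx t.2 (hφ t x).symm]
  -- the idempotent
  obtain ⟨J, χ₀, hχ₀, hJ, hJφ⟩ := exists_src c
  obtain ⟨EJ, hEJ, hEJr, hEJc⟩ := exists_idem_lift hM hJ.idem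
  have hEJu : ∀ u : P, Commute (single (u : G) 1) EJ := fun u =>
    hEJc _ (commute_single_of_conjA (hJ.fix u u.2))
  set f : IrrCharacter G → P → ℂ := fun χ x => fVal hM (χ : G → ℂ) EJ x with hfdef
  have hnatz : ∀ g : P → ℂ, (∀ ν : P →* ℂˣ, ∃ N : ℕ,
      (Nat.card P : ℂ)⁻¹ * ∑ u : P, g u * (ν u : ℂ) = (N : ℂ)) → g ∈ zChar P := fun g hg =>
    mem_zChar_of_coefAt fun ν => by
      obtain ⟨N, hN⟩ := hg ν
      exact ⟨(N : ℤ), by rw [Int.cast_natCast]; exact hN⟩
  have hfz : ∀ χ : IrrCharacter G, f χ ∈ zChar P := fun χ =>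
    hnatz _ fun ν => exists_nat_coef hM (irr_isCharacter χ) hEJ hEJu ν
  set mv : Subgroup P → ℕ := fun R => mVal hM P (eA hM (cz P) e) J (R.map P.subtype) with hmv
  have hmapz : ∀ x : P, (Subgroup.zpowers x).map P.subtype = Subgroup.zpowers (x : G) := fun x => by
    rw [MonoidHom.map_zpowers]; rfl
  have hfv : ∀ (χ : IrrCharacter G) (x : P), x ≠ 1 →
      f χ x = dd c x χ * (mv (Subgroup.zpowers x) : ℂ) := fun χ x hx => by
    simp only [hmv, hmapz]
    exact fVal_eq c (hf.secNil hx) hJ hEJ hEJr hEJu χ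
  obtain ⟨c₀, hc₀, hpc₀⟩ : ∃ c₀ : ℤ, f χ₀ 1 = (c₀ : ℂ) ∧ ¬ (p : ℤ) ∣ c₀ := by
    obtain ⟨N, hN⟩ := exists_nat_trC_idem (irr_isCharacter χ₀) (hEJ.map (inc hM))
    have hf1 : f χ₀ 1 = (N : ℂ) := by
      simp only [hfdef, fVal, OneMemClass.coe_one, ← MonoidAlgebra.one_def, one_mul]
      exact hN
    refine ⟨(N : ℤ), by rw [Int.cast_natCast]; exact hf1, fun h => hJφ ?_⟩
    rw [← hEJr, phi_red, resK_eq_zero_iff]
    show MemLocalIdeal M (trR hM (χ₀ : G → ℂ) EJ)
    rw [trR, hN]
    exact (Blocks.memLocalIdeal_natCast_iff hM N).2 (by exact_mod_cast h)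
  have hcyc : ∀ x : P, x ≠ 1 → ¬ p ∣ mv (Subgroup.zpowers x) := fun x hx =>
    not_dvd_of_zChar hn (hfz χ₀) hc₀ hpc₀ (isIntegral_dd c (hf.secNil hx) χ₀).1 (hfv χ₀ x hx)
  -- the characters at the subgroups
  have hgex : ∀ R : Subgroup P, R ≠ ⊥ → ∃ g : P → ℂ, g ∈ zChar P ∧
      ∀ x : P, ∃ ρ : ℂ, IsIntegral ℤ ρ ∧ ρ * conj ρ = 1 ∧
        g x = ρ * (mv (R ⊔ Subgroup.zpowers x) : ℂ) := by
    intro R hR
    obtain ⟨g, hg1, hg2⟩ := exists_gVal c hf hJ (Subgroup.map_subtype_le R) (Q := R.map P.subtype)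
      (fun h => hR ((Subgroup.map_eq_bot_iff_of_injective _ P.subtype_injective).1 h))
    refine ⟨g, hnatz g hg1, fun x => ?_⟩
    simp only [hmv, Subgroup.map_sup, hmapz]
    exact hg2 x
  choose g hgz hgv using hgex
  have hg1 : ∀ (R : Subgroup P) (hR : R ≠ ⊥), ¬ p ∣ mv R →
      ∃ c' : ℤ, g R hR 1 = (c' : ℂ) ∧ ¬ (p : ℤ) ∣ c' := by
    intro R hR hpR
    obtain ⟨c', hc'⟩ := exists_int_one (hgz R hR)
    obtain ⟨ρ, -, hρ, e1⟩ := hgv R hR 1
    rw [Subgroup.zpowers_one_eq_bot, sup_bot_eq, hc'] at e1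
    refine ⟨c', hc', fun h => hpR ?_⟩
    have h1 : ((c' * c' : ℤ) : ℂ) = (((mv R * mv R : ℕ) : ℤ) : ℂ) := by
      have h2 : conj ((c' : ℂ)) = conj ρ * (mv R : ℂ) := by rw [e1, map_mul, Complex.conj_natCast]
      rw [map_intCast] at h2
      push_cast
      calc (c' : ℂ) * c' = (ρ * (mv R : ℂ)) * (conj ρ * (mv R : ℂ)) := by rw [← h2, ← e1]
        _ = _ := by linear_combination ((mv R : ℂ) * (mv R : ℂ)) * hρ
    have h3 : (p : ℤ) ∣ ((mv R * mv R : ℕ) : ℤ) := by
      rw [← Int.cast_injective h1]; exact dvd_mul_of_dvd_left h _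
    exact (hp.out.dvd_mul.1 (Int.natCast_dvd_natCast.1 h3)).elim id id
  have hstep : ∀ (R : Subgroup P) (x : P), R ≠ ⊥ → ¬ p ∣ mv R →
      ¬ p ∣ mv (R ⊔ Subgroup.zpowers x) := by
    intro R x hR hpR
    obtain ⟨c', hc', hpc'⟩ := hg1 R hR hpR
    obtain ⟨ρ, hρ, -, e1⟩ := hgv R hR x
    exact not_dvd_of_zChar hn (hgz R hR) hc' hpc' hρ e1
  have hunit : ∀ R : Subgroup P, R ≠ ⊥ → ¬ p ∣ mv R := by
    have key : ∀ s : Finset P, s.sup Subgroup.zpowers ≠ ⊥ →
        ¬ p ∣ mv (s.sup Subgroup.zpowers) := by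
      intro s
      induction s using Finset.induction with
      | empty => exact fun h => absurd Finset.sup_empty h
      | insert y s hy ih =>
        intro h
        rw [Finset.sup_insert] at h ⊢
        by_cases hs : s.sup Subgroup.zpowers = ⊥
        · rw [hs, sup_bot_eq] at h ⊢
          exact hcyc y fun h1 => h (by rw [h1, Subgroup.zpowers_one_eq_bot])
        · rw [sup_comm]
          exact hstep _ y hs (ih hs)
    intro R hR
    have e1 : (Finset.univ.filter fun y : P => y ∈ R).sup Subgroup.zpowers = R := by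
      refine le_antisymm (Finset.sup_le fun y hy => Subgroup.zpowers_le.2 (Finset.mem_filter.1 hy).2)
        fun y hy => ?_
      exact Finset.le_sup (f := Subgroup.zpowers)
        (Finset.mem_filter.2 ⟨Finset.mem_univ y, hy⟩) (Subgroup.mem_zpowers y)
    rw [← e1]
    exact key _ (e1.symm ▸ hR)
  set gS : Finset (Subgroup P) → P → ℂ := fun S =>
    if h : S.sup id = ⊥ then 1 else g _ h with hgS
  obtain ⟨hWq, hWne, hWgu, hWv⟩ := incExc_spec hn gS mv hunit
    (fun S hS => by
      simp only [hgS, dif_neg (sup_ne_bot hS)]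
      exact ⟨hgz _ _, hg1 _ _ (hunit _ (sup_ne_bot hS))⟩)
    (fun S hS x _ => by
      simp only [hgS, dif_neg (sup_ne_bot hS)]
      exact hgv _ _ x)
  set W := incExc p gS
  set Φ : P → ℂ := fun x => (mv (Subgroup.zpowers x) : ℂ) * (W x)⁻¹ with hΦdef
  set h : B → P → ℂ := fun χ => f χ.1 * fun x => (W x)⁻¹ with hhdef
  have hΦ : ∀ x : P, x ≠ 1 → IsIntegral ℤ (Φ x) ∧ Φ x * conj (Φ x) = 1 := fun x hx => by
    obtain ⟨ρ, h1, h2, h3⟩ := hWv x hx
    simp only [hΦdef, h3]
    exact ⟨h1, h2⟩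
  have hval : ∀ (χ : B) (x : P), x ≠ 1 → h χ x = dd c x χ.1 * Φ x := fun χ x hx => by
    simp only [hhdef, hΦdef, Pi.mul_apply, hfv χ.1 x hx, mul_assoc]
  have h0ne : ∀ x, h ⟨χ₀, hχ₀⟩ x ≠ 0 := fun x => by
    simp only [hhdef, Pi.mul_apply]
    refine mul_ne_zero ?_ (inv_ne_zero (hWne x))
    by_cases hx : x = 1
    · rw [hx, hc₀, Int.cast_ne_zero]
      exact fun h1 => hpc₀ (h1 ▸ dvd_zero _)
    · rw [hfv χ₀ x hx]
      exact mul_ne_zero (dd_ne_zero c (hf.secNil hx) hχ₀)
        (Nat.cast_ne_zero.2 fun h1 => hcyc x hx (h1 ▸ dvd_zero p))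
  obtain ⟨h', Φ', hh', hΦ', hval', hinv⟩ := exists_invariant hn ha E hcop
    (fun (χ : B) x => dd c x χ.1) h Φ (fun φ hφE χ x hx => hdd φ hφE χ.1 x hx) hval hΦ
    (fun χ => mul_mem (zChar_le_qChar (hfz χ.1)) (inv_mem_qChar hWq hWne))
    (fun χ => Good.mul ⟨f χ.1, hfz χ.1, Cong.refl _⟩ hWgu.good) (i₀ := ⟨χ₀, hχ₀⟩) h0ne
    (GoodUnit.mul ⟨f χ₀, hfz χ₀, ⟨c₀, hc₀, hpc₀⟩, Cong.refl _⟩ hWgu)
  have hint : ∀ (χ : B) (x : P), x ≠ 1 → IsIntegral ℤ (h' χ x) := fun χ x hx => by
    rw [hval' χ x hx]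
    exact (isIntegral_dd c (hf.secNil hx) χ.1).1.mul (hΦ' x hx).1
  have hh'inv : ∀ φ ∈ E, ∀ (χ : B) (x : P), x ≠ 1 → h' χ (φ x) = h' χ x := fun φ hφE χ x hx => by
    rw [hval' χ x hx, hval' χ _ (hEne φ x hx), hdd φ hφE χ.1 x hx, hinv φ hφE x hx]
  choose w hw using fun (χ : B) (l : P →* ℂˣ) =>
    exists_int_coef hn (hh' χ).1 (hh' χ).2 (hint χ) l
  -- orthogonality
  have horth : ∀ x y : P, x ≠ 1 → y ≠ 1 → ∑ χ : B, h' χ x * conj (h' χ y) =
      ∑ φ : E, (if (φ : MulAut P) x = y then (n : ℂ) else 0) := by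
    intro x y hx hy
    have hs : ∑ χ : B, h' χ x * conj (h' χ y) = Φ' x * conj (Φ' y) *
        ((∑ χ ∈ Finset.univ.filter (· ∈ B), dlt c x χ * conj (dlt c y χ)) /
          ((secDeg c x : ℂ) * (secDeg c y : ℂ))) := by
      rw [Finset.sum_subtype (p := fun η : IrrCharacter G => η ∈ B) (Finset.univ.filter (· ∈ B))
        (fun η => by simp)
        (fun χ : IrrCharacter G => dlt c x χ * conj (dlt c y χ)), Finset.sum_div, Finset.mul_sum]
      refine Finset.sum_congr rfl fun χ _ => ?_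
      rw [hval' χ x hx, hval' χ y hy, dd, dd, map_mul, map_div₀, Complex.conj_natCast]
      ring
    by_cases hex : ∃ φ : E, (φ : MulAut P) x = y
    · obtain ⟨φ, hφy⟩ := hex
      obtain ⟨t, ht⟩ := φ.2
      have hty : (t : G) * (x : G) * (t : G)⁻¹ = y := by rw [← hφ t x, ht, hφy]
      have hd : ∀ χ : IrrCharacter G, dlt c y χ = dlt c x χ := fun χ => dlt_conj c t.2 hty χ
      have hne : (secDeg c x : ℂ) ≠ 0 := Nat.cast_ne_zero.2 (secDeg_spec c (hf.secNil hx)).1.ne'
      rw [Finset.sum_eq_single φ, if_pos hφy, hs, secDeg_conj c hf hx t.2 hty,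
        Finset.sum_congr (s₁ := Finset.univ.filter (· ∈ B)) rfl fun χ _ => by rw [hd χ],
        sum_dlt_self c (hf.secNil hx), mul_div_assoc, div_self (mul_ne_zero hne hne), mul_one,
        ← hφy, hinv _ φ.2 x hx, (hΦ' x hx).2, one_mul]
      · intro ψ _ hψ
        rw [if_neg]
        intro hψy
        refine hψ (Subtype.ext ?_)
        have h1 := hEfree _ (φ⁻¹ * ψ).2 x hx (by
          show (φ : MulAut P)⁻¹ ((ψ : MulAut P) x) = x
          rw [hψy, ← hφy]; exact MulEquiv.symm_apply_apply _ x)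
        exact (inv_mul_eq_one.1 h1).symm
      · exact fun h1 => absurd (Finset.mem_univ _) h1
    · rw [Finset.sum_eq_zero fun φ _ => if_neg fun h1 => hex ⟨φ, h1⟩, hs, sum_dlt_ne c fun t ht h1 =>
        hex ⟨⟨φT ⟨t, ht⟩, ⟨⟨t, ht⟩, rfl⟩⟩, Subtype.ext h1⟩]
      simp
  -- the duals
  haveI : Finite (P →* ℂˣ) := Homo949.finite_dual hcomm
  letI : Fintype (P →* ℂˣ) := Fintype.ofFinite _
  let act : E → (P →* ℂˣ) → (P →* ℂˣ) := fun φ l => l.comp (φ : MulAut P).toMonoidHom
  have hdual : ∀ φ : E, φ ≠ 1 → ∀ l : P →* ℂˣ, act φ l = l → l = 1 := by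
    intro φ hφ1 l hl
    let δ : P →* P := (φ : MulAut P).toMonoidHom * (MonoidHom.id P)⁻¹
    have hinj : Function.Injective δ := by
      rw [injective_iff_map_eq_one]
      intro z hz
      by_contra hz1
      exact hφ1 (Subtype.ext (hEfree _ φ.2 z hz1 (mul_inv_eq_one.1 (by simpa [δ] using hz))))
    ext z
    obtain ⟨y, rfl⟩ := Finite.injective_iff_surjective.1 hinj z
    have h1 := DFunLike.congr_fun hl y
    simp only [act, MonoidHom.comp_apply, MulEquiv.coe_toMonoidHom] at h1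
    simp [δ, h1]
  let D := {l : P →* ℂˣ // l ≠ 1}
  have hact1 : ∀ (φ : E) (l : P →* ℂˣ), l ≠ 1 → act φ l ≠ 1 := fun φ l hl h1 => hl (by
    ext z
    have h2 := DFunLike.congr_fun h1 ((φ : MulAut P).symm z)
    simpa [act] using congrArg Units.val h2)
  let sD : Setoid D :=
    { r := fun l l' => ∃ φ : E, act φ l.1 = l'.1
      iseqv := ⟨fun l => ⟨1, MonoidHom.ext fun z => rfl⟩,
        fun {l l'} ⟨φ, hφl⟩ => ⟨φ⁻¹, by
          rw [← hφl]
          refine MonoidHom.ext fun z => ?_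
          show l.1 ((φ : MulAut P) ((φ : MulAut P)⁻¹ z)) = l.1 z
          exact congrArg l.1 (MulEquiv.apply_symm_apply _ z)⟩,
        fun {l l' l''} ⟨φ, hφl⟩ ⟨ψ, hψl⟩ => ⟨φ * ψ, by
          rw [← hψl, ← hφl]; rfl⟩⟩ }
  haveI : Fintype (Quotient sD) := Fintype.ofFinite _
  set m := Fintype.card (Quotient sD) with hm
  have hclass : ∀ q : Quotient sD,
      (Finset.univ.filter fun l : D => Quotient.mk sD l = q).card = ee := by
    intro q
    rw [← hEcard, Nat.card_eq_fintype_card, ← Finset.card_univ]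
    symm
    refine Finset.card_bij (fun φ _ => (⟨act φ q.out.1, hact1 φ _ q.out.2⟩ : D))
      (fun φ _ => ?_) (fun φ _ ψ _ hφψ => ?_) (fun l hl => ?_)
    · refine Finset.mem_filter.2 ⟨Finset.mem_univ _, ?_⟩
      conv_rhs => rw [← q.out_eq]
      refine (Quotient.sound ?_).symm
      exact ⟨φ, rfl⟩
    · by_contra hne
      refine q.out.2 (hdual (φ * ψ⁻¹) (fun h1 => hne (mul_inv_eq_one.1 h1)) _ ?_)
      have h1 : act φ q.out.1 = act ψ q.out.1 := congrArg Subtype.val hφψ
      refine MonoidHom.ext fun z => ?_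
      have h2 := DFunLike.congr_fun h1 ((ψ : MulAut P)⁻¹ z)
      simp only [act, MonoidHom.comp_apply, MulEquiv.coe_toMonoidHom] at h2 ⊢
      rw [show (ψ : MulAut P) ((ψ : MulAut P)⁻¹ z) = z from MulEquiv.apply_symm_apply _ z] at h2
      exact h2
    · have h1 := (Finset.mem_filter.1 hl).2
      rw [← q.out_eq] at h1
      obtain ⟨φ, hφl⟩ := Quotient.exact h1.symm
      exact ⟨φ, Finset.mem_univ _, Subtype.ext hφl⟩
  have hDcard : Fintype.card D + 1 = n := by
    rw [hndef, ← Homo949.card_dual hcomm, Nat.card_eq_fintype_card]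
    show Fintype.card {l : P →* ℂˣ // ¬ l = 1} + 1 = _
    rw [Fintype.card_subtype_compl, Fintype.card_subtype_eq]
    exact Nat.sub_add_cancel Fintype.card_pos
  have hnm : n = ee * m + 1 := by
    rw [← hDcard, ← Finset.card_univ, Finset.card_eq_sum_card_fiberwise
      (f := fun l : D => Quotient.mk sD l) (t := Finset.univ) (fun l _ => Finset.mem_univ _),
      Finset.sum_congr rfl fun q _ => hclass q, Finset.sum_const, Finset.card_univ, smul_eq_mul,
      ← hm, mul_comm]
  have hm0 : 0 < m := by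
    rcases Nat.eq_zero_or_pos m with h0 | h0
    · exfalso
      rw [h0, mul_zero, zero_add] at hnm
      exact (Nat.one_lt_pow ha hp.out.one_lt).ne' (hn.symm.trans hnm)
    · exact h0
  let rep : Fin m → D := fun i => ((Fintype.equivFin (Quotient sD)).symm i).out
  have hrep : ∀ (i j : Fin m) (φ : E), act φ (rep j).1 = (rep i).1 → φ = 1 ∧ i = j := by
    intro i j φ h1
    have hij : i = j := by
      have h2 : Quotient.mk sD (rep j) = Quotient.mk sD (rep i) := Quotient.sound ⟨φ, h1⟩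
      simp only [rep, Quotient.out_eq] at h2
      exact ((Fintype.equivFin (Quotient sD)).symm.injective h2).symm
    subst hij
    refine ⟨?_, rfl⟩
    by_contra hφ1
    exact (rep i).2 (hdual φ hφ1 _ h1)
  set C : Fin m → B → ℤ := fun i χ => w χ (rep i).1 with hC
  have hsum0 : ∀ l : P →* ℂˣ, l ≠ 1 → ∑ x : P, (l x : ℂ) = 0 := fun l hl => by
    have h1 := Homo949.sum_hom_orth l 1
    rw [if_neg hl] at h1
    simpa using h1
  have hgram : ∀ i j, ∑ χ : B, C i χ * C j χ = (ee : ℤ) + if i = j then 1 else 0 := by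
    intro i j
    set l := (rep i).1 with hl
    set l' := (rep j).1 with hl'
    have key : ∀ φ : E, ∑ x : P, ((l x : ℂ) - 1) * conj ((l' ((φ : MulAut P) x) : ℂ) - 1) =
        (n : ℂ) * ((if act φ l' = l then 1 else 0) + 1) := by
      intro φ
      have h1 := Homo949.sum_hom_orth l (act φ l')
      have h2 : ∑ x : P, conj (act φ l' x : ℂ) = 0 := by
        rw [← map_sum, hsum0 _ (hact1 φ _ (rep j).2), map_zero]
      simp only [act, MonoidHom.comp_apply, MulEquiv.coe_toMonoidHom] at h1 h2 ⊢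
      simp only [map_sub, map_one, sub_mul, mul_sub, one_mul, mul_one, Finset.sum_sub_distrib,
        h1, h2, hsum0 l (rep i).2, Finset.sum_const, Finset.card_univ, nsmul_eq_mul]
      rw [hndef, ← Nat.card_eq_fintype_card]
      by_cases hh : l'.comp (φ : MulAut P).toMonoidHom = l
      · rw [if_pos hh.symm, if_pos hh]; ring
      · rw [if_neg (Ne.symm hh), if_neg hh]; ring
    have hC' : ((∑ χ : B, C i χ * C j χ : ℤ) : ℂ) =
        (((ee : ℤ) + if i = j then 1 else 0 : ℤ) : ℂ) := by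
      push_cast
      calc ∑ χ : B, (C i χ : ℂ) * (C j χ : ℂ)
          = ∑ χ : B, (C i χ : ℂ) * conj (C j χ : ℂ) :=
            Finset.sum_congr rfl fun χ _ => by rw [map_intCast]
        _ = (n : ℂ)⁻¹ * (n : ℂ)⁻¹ * ∑ x : P, ∑ y : P,
              ((l x : ℂ) - 1) * conj ((l' y : ℂ) - 1) * ∑ χ : B, h' χ x * conj (h' χ y) := by
            simp only [hC, ← hw, map_mul, map_inv₀, Complex.conj_natCast, map_sum]
            simp only [Finset.mul_sum, Finset.sum_mul]
            rw [Finset.sum_comm]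
            refine (Finset.sum_congr rfl fun y _ => Finset.sum_comm).trans ?_
            rw [Finset.sum_comm]
            exact Finset.sum_congr rfl fun x _ => Finset.sum_congr rfl fun y _ =>
              Finset.sum_congr rfl fun χ _ => by ring
        _ = (n : ℂ)⁻¹ * (n : ℂ)⁻¹ * ∑ φ : E, (n : ℂ) *
              ∑ x : P, ((l x : ℂ) - 1) * conj ((l' ((φ : MulAut P) x) : ℂ) - 1) := by
            refine congrArg _ ?_
            simp only [Finset.mul_sum]
            rw [Finset.sum_comm (s := (Finset.univ : Finset E))]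
            refine Finset.sum_congr rfl fun x _ => ?_
            by_cases hx : x = 1
            · subst hx; simp
            calc _ = ∑ y : P, ∑ φ : E, ((l x : ℂ) - 1) * conj ((l' y : ℂ) - 1) *
                  (if (φ : MulAut P) x = y then (n : ℂ) else 0) := by
                  refine Finset.sum_congr rfl fun y _ => ?_
                  by_cases hy : y = 1
                  · subst hy; simp
                  rw [← Finset.mul_sum, horth x y hx hy, Finset.mul_sum]
              _ = _ := by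
                  rw [Finset.sum_comm]
                  refine Finset.sum_congr rfl fun φ _ => ?_
                  rw [Finset.sum_eq_single ((φ : MulAut P) x)]
                  · rw [if_pos rfl]; ring
                  · intro y _ hy; rw [if_neg (Ne.symm hy), mul_zero]
                  · exact fun h1 => absurd (Finset.mem_univ _) h1
        _ = ∑ φ : E, ((if act φ l' = l then (1 : ℂ) else 0) + 1) := by
            rw [Finset.mul_sum]
            refine Finset.sum_congr rfl fun φ _ => ?_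
            rw [key φ]; field_simp
        _ = _ := by
            rw [Finset.sum_add_distrib, Finset.sum_const, Finset.card_univ,
              ← Nat.card_eq_fintype_card, hEcard, nsmul_eq_mul, mul_one, add_comm]
            congr 1
            rw [Finset.sum_eq_single (1 : E)]
            · by_cases hij : i = j
              · subst hij
                rw [if_pos rfl, if_pos (show act 1 l' = l from MonoidHom.ext fun z => rfl)]
              · rw [if_neg hij, if_neg fun h1 => hij (hrep i j 1 h1).2]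
            · intro φ _ hφ1
              rw [if_neg fun h1 => hφ1 (hrep i j φ h1).1]
            · exact fun h1 => absurd (Finset.mem_univ _) h1
    exact_mod_cast hC'
  have hdeg : ∀ i, ∑ χ : B, C i χ * (charDegree ((χ : IrrCharacter G) : G → ℂ) : ℤ) = 0 := by
    intro i
    have h1 : ((∑ χ : B, C i χ * (charDegree ((χ : IrrCharacter G) : G → ℂ) : ℤ) : ℤ) : ℂ) = 0 := by
      push_cast
      simp only [hC, ← hw, Finset.mul_sum, Finset.sum_mul]
      rw [Finset.sum_comm]
      refine Finset.sum_eq_zero fun x _ => ?_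
      by_cases hx : x = 1
      · subst hx; simp
      calc _ = (n : ℂ)⁻¹ * (((rep i).1 x : ℂ) - 1) * Φ' x / (secDeg c x : ℂ) *
            ∑ χ ∈ Finset.univ.filter (· ∈ B), dlt c x χ * (χ : G → ℂ) 1 := by
            rw [Finset.sum_subtype (p := fun η : IrrCharacter G => η ∈ B) (Finset.univ.filter (· ∈ B))
        (fun η => by simp)
              (fun χ : IrrCharacter G => dlt c x χ * (χ : G → ℂ) 1), Finset.mul_sum]
            refine Finset.sum_congr rfl fun χ _ => ?_
            rw [hval' χ x hx, dd, CharCorr.irr_one_eq_charDegree]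
            ring
        _ = 0 := by rw [sum_dlt_degree c hx, mul_zero]
    exact_mod_cast h1
  have hwinv : ∀ (φ : E) (χ : B) (l : P →* ℂˣ), w χ (act φ l) = w χ l := by
    intro φ χ l
    have h1 : ((w χ (act φ l) : ℤ) : ℂ) = (w χ l : ℂ) := by
      rw [← hw, ← hw]
      refine congrArg _ (Fintype.sum_equiv (φ : MulAut P).toEquiv _ _ fun x => ?_)
      by_cases hx : x = 1
      · subst hx; simp [act]
      · show ((act φ l x : ℂ) - 1) * h' χ x =
          ((l ((φ : MulAut P) x) : ℂ) - 1) * h' χ ((φ : MulAut P) x)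
        rw [hh'inv _ φ.2 χ x hx]; rfl
    exact_mod_cast h1
  have hmeet : ∀ χ : B, ∃ i, C i χ ≠ 0 := by
    intro χ
    by_contra hall
    simp only [not_exists, not_not] at hall
    have hzero : ∀ l : P →* ℂˣ, w χ l = 0 := by
      intro l
      by_cases hl : l = 1
      · subst hl
        have h1 : ((w χ 1 : ℤ) : ℂ) = 0 := by rw [← hw]; simp
        exact_mod_cast h1
      · set q : Quotient sD := Quotient.mk sD ⟨l, hl⟩
        obtain ⟨φ, hφl⟩ := Quotient.exact q.out_eq
        have h2 := hall (Fintype.equivFin (Quotient sD) q)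
        simp only [hC, rep, Equiv.symm_apply_apply] at h2
        rw [show l = act φ q.out.1 from hφl.symm, hwinv, h2]
    obtain ⟨x₀, hx₀⟩ : ∃ x : P, x ≠ 1 := by
      haveI : Nontrivial P := Finite.one_lt_card_iff_nontrivial.1
        (by rw [← hndef, hn]; exact Nat.one_lt_pow ha hp.out.one_lt)
      exact exists_ne 1
    have hS : ∀ l : P →* ℂˣ, ∑ x : P, (l x : ℂ) * h' χ x = ∑ x : P, h' χ x := by
      intro l
      have h1 := hw χ l
      rw [hzero l, Int.cast_zero] at h1
      have h2 := (mul_eq_zero.1 h1).resolve_left (inv_ne_zero hnC)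
      simp only [sub_mul, one_mul, Finset.sum_sub_distrib, sub_eq_zero] at h2
      exact h2
    have h3 := Homo949.eq_sum_coef hcomm (h' χ) x₀
    rw [Finset.sum_congr rfl fun l _ => show (∑ y : P, h' χ y * conj (l y : ℂ)) * (l x₀ : ℂ) =
      (∑ y : P, h' χ y) * (l x₀ : ℂ) by
        congr 1
        rw [← hS l⁻¹]
        refine Finset.sum_congr rfl fun y _ => ?_
        rw [Homo949.conj_hom, MonoidHom.inv_apply, map_inv, mul_comm],
      ← Finset.mul_sum, Homo949.sum_hom_eval hcomm x₀, if_neg hx₀, mul_zero] at h3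
    have h4 := (mul_eq_zero.1 h3).resolve_left hnC
    rw [hval' χ x₀ hx₀] at h4
    exact mul_ne_zero (dd_ne_zero c (hf.secNil hx₀) χ.2)
      (left_ne_zero_of_mul ((hΦ' x₀ hx₀).2 ▸ one_ne_zero)) h4
  have hdegpos : ∀ χ : B, (0 : ℤ) < (charDegree ((χ : IrrCharacter G) : G → ℂ) : ℤ) := fun χ =>
    Int.natCast_pos.2 (CfsgLib.ClassCount.degree_eq χ.1).2.2
  -- the count
  have hw1 : ∀ x : P, x ≠ 1 → subWeight hM P (eA hM (cz P) e) x = (ee : ℂ)⁻¹ := by
    intro x hx
    have horb : orbCard T P (x : G) = ee := by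
      rw [orbCard, ← hEcard, Nat.card_eq_fintype_card, ← Finset.card_univ]
      symm
      refine Finset.card_bij (fun φ _ => (φ : MulAut P) x) (fun φ _ => ?_) (fun φ _ ψ _ h1 => ?_)
        (fun y hy => ?_)
      · obtain ⟨t, ht⟩ := φ.2
        simp only [Finset.mem_filter, Finset.mem_univ, true_and]
        exact ⟨t, t.2, by rw [← ht]; exact (hφ t x).symm⟩
      · have h2 := hEfree _ (ψ⁻¹ * φ).2 x hx (by
          show (ψ : MulAut P)⁻¹ ((φ : MulAut P) x) = x
          rw [h1]; exact MulEquiv.symm_apply_apply _ x)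
        exact (Subtype.ext (inv_mul_eq_one.1 h2)).symm
      · simp only [Finset.mem_filter, Finset.mem_univ, true_and] at hy
        obtain ⟨t, ht, hty⟩ := hy
        exact ⟨⟨φT ⟨t, ht⟩, ⟨⟨t, ht⟩, rfl⟩⟩, Finset.mem_univ _, Subtype.ext hty⟩
    obtain ⟨hb, -, hcov, -⟩ := bx_spec c x
    rw [c.subWeight_eq, horb, rkC_eq c.pgroup c.block.ne_zero (c.le_cz_zpowers x) hb hcov,
      (secDeg_spec c (hf.secNil hx)).2.2.2.2, Nat.cast_one, one_div]
  have hw0 : subWeight hM P (eA hM (cz P) e) 1 = (blockRank p B : ℂ) := by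
    rw [c.subWeight_eq, orbCard_fixed (v := (1 : P)) (fun t _ => by simp), OneMemClass.coe_one,
      Subgroup.zpowers_one_eq_bot, cz_bot, c.rkC_top, Nat.cast_one, div_one]
  have hk : Nat.card B = blockRank p B + m := by
    have h1 : (Nat.card B : ℂ) = (blockRank p B : ℂ) + (m : ℂ) := by
      rw [card_block_eq_sum c.hmax (hM := hM), ← Finset.add_sum_erase _ _ (Finset.mem_univ (1 : P)),
        hw0, Finset.sum_congr rfl fun x hx => hw1 x (Finset.mem_erase.1 hx).1, Finset.sum_const,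
        Finset.card_erase_of_mem (Finset.mem_univ _), Finset.card_univ,
        ← Nat.card_eq_fintype_card, ← hndef, hnm, Nat.add_sub_cancel, nsmul_eq_mul]
      have : (ee : ℂ) ≠ 0 := Nat.cast_ne_zero.2 hee.ne'
      push_cast
      field_simp
    exact_mod_cast h1
  have hBcard : Fintype.card B = blockRank p B + m := by rw [← hk, Nat.card_eq_fintype_card]
  obtain ⟨hle, -⟩ := CyclicBlock.exists_exceptional C
    (fun χ : B => (charDegree ((χ : IrrCharacter G) : G → ℂ) : ℤ)) hm0 hgram hdeg hdegpos hmeet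
    (Int.natCast_nonneg ee)
  refine ⟨m, hm0, hee, hnm, hk, ?_, fun he3 => ?_⟩
  · rw [hBcard] at hle; push_cast at hle; omega
  · have hpos := CyclicDefectBound.one_le_blockRank hM c.isPBlockB
    rcases card_eq_of_small C (fun χ : B => (charDegree ((χ : IrrCharacter G) : G → ℂ) : ℤ)) hm0
      hgram hdeg hdegpos hmeet (by omega) (by omega) (by omega) with h1 | h1 | h1 | h1
    · left; rw [hBcard] at h1; push_cast at h1; omega
    · right; left; omega
    · right; right; left; omega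
    · right; right; right; omega

end CfsgLib.FreeInertial
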