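import Cfsg.Agent.Lib.Blocks.Homo949Dual
import Cfsg.Agent.Lib.KGV.CharTools
import Mathlib.Algebra.CharP.Lemmas
import Mathlib.NumberTheory.Basic

/-!
# Generalised characters of a finite commutative group and congruences modulo its order

`zChar` is the ring of generalised characters, `qChar` its rational span.  A function is `Good` if
off the identity it is congruent to a generalised character modulo the order of the group, with
denominators prime to `p` allowed.
-/

set_option autoImplicit false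
set_option linter.unusedSectionVars false

namespace CfsgLib.FreeInertial

open Cfsg CfsgLib.Blocks
open scoped Classical ComplexConjugate

universe u

variable (A : Type u) [CommGroup A] [Fintype A]

/-- A linear character as a complex function. -/
noncomputable def homFun : (A →* ℂˣ) →* (A → ℂ) where
  toFun l := fun x => (l x : ℂ)
  map_one' := by funext x; simp
  map_mul' l l' := by funext x; simp

/-- The generalised characters. -/
noncomputable def zChar : Subring (A → ℂ) := Subring.closure (Set.range (homFun A))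

/-- The rational combinations of characters. -/
noncomputable def qChar : Subalgebra ℚ (A → ℂ) := Algebra.adjoin ℚ (Set.range (homFun A))

/-- The coefficient at a linear character. -/
noncomputable def coefAt (F : A → ℂ) (l : A →* ℂˣ) : ℂ :=
  (Nat.card A : ℂ)⁻¹ * ∑ x : A, F x * (l x : ℂ)

/-- Numbers that become algebraic integers after a multiplication prime to `p`. -/
def pInt (p : ℕ) (hp : p.Prime) : Subring ℂ where
  carrier := {z | ∃ m : ℕ, ¬ p ∣ m ∧ IsIntegral ℤ ((m : ℂ) * z)}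
  mul_mem' := by
    rintro a b ⟨m, hm, ha⟩ ⟨m', hm', hb⟩
    refine ⟨m * m', hp.not_dvd_mul hm hm', ?_⟩
    rw [Nat.cast_mul, mul_mul_mul_comm]
    exact ha.mul hb
  one_mem' := ⟨1, hp.not_dvd_one, by simpa using isIntegral_one⟩
  add_mem' := by
    rintro a b ⟨m, hm, ha⟩ ⟨m', hm', hb⟩
    refine ⟨m * m', hp.not_dvd_mul hm hm', ?_⟩
    rw [Nat.cast_mul, show (m : ℂ) * m' * (a + b) = (m' : ℂ) * (m * a) + (m : ℂ) * (m' * b) by ring]
    exact ((isIntegral_algebraMap (R := ℤ) (x := (m' : ℤ))).mul ha).add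
      ((isIntegral_algebraMap (R := ℤ) (x := (m : ℤ))).mul hb)
  zero_mem' := ⟨1, hp.not_dvd_one, by simpa using isIntegral_zero⟩
  neg_mem' := by
    rintro a ⟨m, hm, ha⟩
    exact ⟨m, hm, by rw [mul_neg]; exact ha.neg⟩

variable {A}

theorem mem_pInt_of_isIntegral {p : ℕ} (hp : p.Prime) {z : ℂ} (hz : IsIntegral ℤ z) :
    z ∈ pInt p hp :=
  ⟨1, hp.not_dvd_one, by simpa using hz⟩

/-- Integral away from `p` and at `p` is integral. -/
theorem isIntegral_of_pInt {p : ℕ} (hp : p.Prime) {z : ℂ} (hz : z ∈ pInt p hp) {a : ℕ}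
    (hn : IsIntegral ℤ (((p ^ a : ℕ) : ℂ) * z)) : IsIntegral ℤ z := by
  obtain ⟨m, hm, hmz⟩ := hz
  have hc : Nat.Coprime (p ^ a) m := Nat.Coprime.pow_left a (hp.coprime_iff_not_dvd.2 hm)
  obtain ⟨u, v, h⟩ := Nat.isCoprime_iff_coprime.2 hc
  have h' : ((u : ℂ) * ((p ^ a : ℕ) : ℂ) + (v : ℂ) * (m : ℂ)) = 1 := by exact_mod_cast h
  rw [← one_mul z, ← h', add_mul, mul_assoc, mul_assoc]
  exact ((isIntegral_algebraMap (R := ℤ) (x := u)).mul hn).add
    ((isIntegral_algebraMap (R := ℤ) (x := v)).mul hmz)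

theorem isIntegral_hom (l : A →* ℂˣ) (x : A) : IsIntegral ℤ (l x : ℂ) := by
  refine IsIntegral.of_pow (n := Nat.card A) Nat.card_pos ?_
  rw [← Units.val_pow_eq_pow_val, ← map_pow, pow_card_eq_one', map_one, Units.val_one]
  exact isIntegral_one

theorem hom_mem_rootField (l : A →* ℂˣ) (x : A) : (l x : ℂ) ∈ KGV.rootField (Nat.card A) := by
  refine KGV.mem_rootField_of_pow_eq_one ?_
  rw [← Units.val_pow_eq_pow_val, ← map_pow, pow_card_eq_one', map_one, Units.val_one]

theorem homFun_mem_zChar (l : A →* ℂˣ) : homFun A l ∈ zChar A :=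
  Subring.subset_closure ⟨l, rfl⟩

theorem zChar_le_qChar {F : A → ℂ} (hF : F ∈ zChar A) : F ∈ qChar A :=
  (Subring.closure_le (t := (qChar A).toSubring)).2 Algebra.subset_adjoin hF

theorem isIntegral_zChar {F : A → ℂ} (hF : F ∈ zChar A) (x : A) : IsIntegral ℤ (F x) := by
  induction hF using Subring.closure_induction with
  | mem y hy => obtain ⟨l, rfl⟩ := hy; exact isIntegral_hom l x
  | zero => exact isIntegral_zero
  | one => exact isIntegral_one
  | add y z _ _ hy hz => exact hy.add hz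
  | neg y _ hy => exact hy.neg
  | mul y z _ _ hy hz => exact hy.mul hz

theorem exists_int_one {F : A → ℂ} (hF : F ∈ zChar A) : ∃ c : ℤ, F 1 = (c : ℂ) := by
  induction hF using Subring.closure_induction with
  | mem y hy => obtain ⟨l, rfl⟩ := hy; exact ⟨1, by simp [homFun]⟩
  | zero => exact ⟨0, by simp⟩
  | one => exact ⟨1, by simp⟩
  | add y z _ _ hy hz =>
    obtain ⟨a, ha⟩ := hy; obtain ⟨b, hb⟩ := hz
    exact ⟨a + b, by simp [ha, hb]⟩
  | neg y _ hy => obtain ⟨a, ha⟩ := hy; exact ⟨-a, by simp [ha]⟩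
  | mul y z _ _ hy hz =>
    obtain ⟨a, ha⟩ := hy; obtain ⟨b, hb⟩ := hz
    exact ⟨a * b, by simp [ha, hb]⟩

theorem mem_rootField_qChar {F : A → ℂ} (hF : F ∈ qChar A) (x : A) :
    F x ∈ KGV.rootField (Nat.card A) := by
  induction hF using Algebra.adjoin_induction with
  | mem y hy => obtain ⟨l, rfl⟩ := hy; exact hom_mem_rootField l x
  | algebraMap r => exact (KGV.rootField (Nat.card A)).algebraMap_mem r
  | add y z _ _ hy hz => exact add_mem hy hz
  | mul y z _ _ hy hz => exact mul_mem hy hz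

theorem coefAt_homFun (l m : A →* ℂˣ) :
    coefAt A (homFun A l) m = if l = m⁻¹ then 1 else 0 := by
  have hn : (Nat.card A : ℂ) ≠ 0 := Nat.cast_ne_zero.2 Nat.card_pos.ne'
  have h := Homo949.sum_hom_orth l m⁻¹
  have key : ∀ x : A, conj ((m⁻¹ : A →* ℂˣ) x : ℂ) = (m x : ℂ) := fun x => by
    rw [Homo949.conj_hom]; simp
  simp only [key] at h
  show (Nat.card A : ℂ)⁻¹ * ∑ x : A, (l x : ℂ) * (m x : ℂ) = _
  rw [h]
  split_ifs with h1
  · exact inv_mul_cancel₀ hn
  · exact mul_zero _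

theorem coefAt_zChar {F : A → ℂ} (hF : F ∈ zChar A) (m : A →* ℂˣ) :
    ∃ c : ℤ, coefAt A F m = (c : ℂ) := by
  rw [zChar, Subring.mem_closure_iff] at hF
  induction hF using AddSubgroup.closure_induction with
  | mem y hy =>
    obtain ⟨l, rfl⟩ := (Submonoid.closure_le (S := MonoidHom.mrange (homFun A))).2
      (fun z hz => hz) hy
    rw [coefAt_homFun]
    split_ifs
    · exact ⟨1, by simp⟩
    · exact ⟨0, by simp⟩
  | zero => exact ⟨0, by simp [coefAt]⟩
  | add y z _ _ hy hz =>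
    obtain ⟨a, ha⟩ := hy; obtain ⟨b, hb⟩ := hz
    exact ⟨a + b, by rw [Int.cast_add, ← ha, ← hb]; simp [coefAt, add_mul, Finset.sum_add_distrib, mul_add]⟩
  | neg y _ hy =>
    obtain ⟨a, ha⟩ := hy
    exact ⟨-a, by rw [Int.cast_neg, ← ha]; simp [coefAt]⟩

theorem coefAt_qChar {F : A → ℂ} (hF : F ∈ qChar A) (m : A →* ℂˣ) :
    ∃ c : ℚ, coefAt A F m = (c : ℂ) := by
  have hF' : F ∈ Subalgebra.toSubmodule (Algebra.adjoin ℚ (Set.range (homFun A))) := hF
  rw [Algebra.adjoin_eq_span] at hF'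
  clear hF
  induction hF' using Submodule.span_induction with
  | mem y hy =>
    obtain ⟨l, rfl⟩ := (Submonoid.closure_le (S := MonoidHom.mrange (homFun A))).2
      (fun z hz => hz) hy
    rw [coefAt_homFun]
    split_ifs
    · exact ⟨1, by simp⟩
    · exact ⟨0, by simp⟩
  | zero => exact ⟨0, by simp [coefAt]⟩
  | add y z _ _ hy hz =>
    obtain ⟨a, ha⟩ := hy; obtain ⟨b, hb⟩ := hz
    exact ⟨a + b, by rw [Rat.cast_add, ← ha, ← hb]; simp [coefAt, add_mul, Finset.sum_add_distrib, mul_add]⟩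
  | smul r y _ hy =>
    obtain ⟨a, ha⟩ := hy
    refine ⟨r * a, ?_⟩
    rw [Rat.cast_mul, ← ha]
    simp only [coefAt, Pi.smul_apply, Rat.smul_def, mul_assoc, ← Finset.mul_sum]
    ring

theorem mem_zChar_of_coefAt {F : A → ℂ} (h : ∀ m, ∃ c : ℤ, coefAt A F m = (c : ℂ)) :
    F ∈ zChar A := by
  haveI : Finite (A →* ℂˣ) := Homo949.finite_dual mul_comm
  letI : Fintype (A →* ℂˣ) := Fintype.ofFinite _
  choose c hc using h
  have : F = ∑ l : A →* ℂˣ, c l⁻¹ • homFun A l := by
    funext x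
    have hn : (Nat.card A : ℂ) ≠ 0 := Nat.cast_ne_zero.2 Nat.card_pos.ne'
    apply mul_left_cancel₀ hn
    rw [Homo949.eq_sum_coef mul_comm F x, Finset.sum_apply, Finset.mul_sum]
    refine Finset.sum_congr rfl fun l _ => ?_
    simp only [Pi.smul_apply, zsmul_eq_mul, ← hc]
    rw [coefAt, mul_assoc, ← mul_assoc (Nat.card A : ℂ), mul_inv_cancel₀ hn, one_mul]
    simp only [homFun, MonoidHom.coe_mk, OneHom.coe_mk, Homo949.conj_hom, MonoidHom.inv_apply,
      map_inv]
  rw [this]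
  exact sum_mem fun l _ => zsmul_mem (homFun_mem_zChar l) _

theorem comp_mem_zChar {F : A → ℂ} (hF : F ∈ zChar A) (φ : A →* A) : F ∘ φ ∈ zChar A := by
  induction hF using Subring.closure_induction with
  | mem y hy => obtain ⟨l, rfl⟩ := hy; exact homFun_mem_zChar (l.comp φ)
  | zero => exact zero_mem _
  | one => exact one_mem _
  | add y z _ _ hy hz => exact add_mem hy hz
  | neg y _ hy => exact neg_mem hy
  | mul y z _ _ hy hz => exact mul_mem hy hz

theorem comp_mem_qChar {F : A → ℂ} (hF : F ∈ qChar A) (φ : A →* A) : F ∘ φ ∈ qChar A := by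
  induction hF using Algebra.adjoin_induction with
  | mem y hy => obtain ⟨l, rfl⟩ := hy; exact Algebra.subset_adjoin ⟨l.comp φ, rfl⟩
  | algebraMap r => exact (qChar A).algebraMap_mem r
  | add y z _ _ hy hz => exact add_mem hy hz
  | mul y z _ _ hy hz => exact mul_mem hy hz

theorem inv_mem_qChar {F : A → ℂ} (hF : F ∈ qChar A) (h0 : ∀ x, F x ≠ 0) :
    (fun x => (F x)⁻¹) ∈ qChar A := by
  haveI : Finite (A →* ℂˣ) := Homo949.finite_dual mul_comm
  haveI : FiniteDimensional ℚ (qChar A) := by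
    have hfg : (Subalgebra.toSubmodule (qChar A)).FG := by
      rw [qChar, Algebra.adjoin_eq_span]
      refine Submodule.fg_span ((Set.finite_range (homFun A)).subset fun z hz => ?_)
      exact (Submonoid.closure_le (S := MonoidHom.mrange (homFun A))).2 (fun z hz => hz) hz
    exact Module.Finite.iff_fg.2 hfg
  let L : qChar A →ₗ[ℚ] qChar A := LinearMap.mulLeft ℚ (⟨F, hF⟩ : qChar A)
  have hinj : Function.Injective L := fun a b hab => Subtype.ext (funext fun x =>
    mul_left_cancel₀ (h0 x) (congrFun (congrArg Subtype.val hab) x))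
  obtain ⟨G, hG⟩ := LinearMap.surjective_of_injective hinj 1
  have e : (fun x => (F x)⁻¹) = (G : A → ℂ) := funext fun x =>
    inv_eq_of_mul_eq_one_right (congrFun (congrArg Subtype.val hG) x)
  rw [e]
  exact G.2

section Congr

variable {p : ℕ} [hp : Fact p.Prime] {a : ℕ}

/-- Frobenius: a power by the order is congruent to the value at the identity. -/
theorem dvd_pow_sub_one (hn : Nat.card A = p ^ a) (F : zChar A) {c : ℤ}
    (hc : (F : A → ℂ) 1 = (c : ℂ)) : (p : zChar A) ∣ F ^ Nat.card A - (c : zChar A) := by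
  rw [hn]
  obtain ⟨F, hF⟩ := F
  dsimp only at hc
  induction hF using Subring.closure_induction generalizing c with
  | mem y hy =>
    obtain ⟨l, rfl⟩ := hy
    obtain rfl : c = 1 := by
      have : (1 : ℂ) = (c : ℂ) := by rw [← hc]; simp [homFun]
      exact_mod_cast this.symm
    refine ⟨0, ?_⟩
    rw [mul_zero, sub_eq_zero]
    refine Subtype.ext ?_
    simp only [SubmonoidClass.coe_pow, Int.cast_one, OneMemClass.coe_one]
    rw [← map_pow, ← hn, show l ^ Nat.card A = 1 from MonoidHom.ext fun x => by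
      rw [MonoidHom.pow_apply, ← map_pow, pow_card_eq_one', map_one, MonoidHom.one_apply], map_one]
  | zero =>
    obtain rfl : c = 0 := by
      have : (0 : ℂ) = (c : ℂ) := hc
      exact_mod_cast this.symm
    rw [show (⟨0, zero_mem _⟩ : zChar A) = 0 from rfl, Int.cast_zero, sub_zero,
      zero_pow (pow_ne_zero _ hp.out.ne_zero)]
    exact dvd_zero _
  | one =>
    obtain rfl : c = 1 := by
      have : (1 : ℂ) = (c : ℂ) := hc
      exact_mod_cast this.symm
    rw [show (⟨1, one_mem _⟩ : zChar A) = 1 from rfl, Int.cast_one, one_pow, sub_self]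
    exact dvd_zero _
  | add y z hy hz ihy ihz =>
    obtain ⟨cy, hcy⟩ := exists_int_one hy
    obtain ⟨cz, hcz⟩ := exists_int_one hz
    obtain rfl : c = cy + cz := by
      have : ((cy + cz : ℤ) : ℂ) = (c : ℂ) := by rw [Int.cast_add, ← hcy, ← hcz]; exact hc
      exact_mod_cast this.symm
    have h1 := ihy hcy
    have h2 := ihz hcz
    rw [show (⟨y + z, add_mem hy hz⟩ : zChar A) = ⟨y, hy⟩ + ⟨z, hz⟩ from rfl, Int.cast_add]
    obtain ⟨r, hr⟩ := exists_add_pow_prime_pow_eq hp.out (⟨y, hy⟩ : zChar A) ⟨z, hz⟩ a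
    obtain ⟨r1, hr1⟩ := h1
    obtain ⟨r2, hr2⟩ := h2
    refine ⟨r1 + r2 + (⟨y, hy⟩ : zChar A) * ⟨z, hz⟩ * r, ?_⟩
    rw [hr]
    linear_combination hr1 + hr2
  | neg y hy ihy =>
    obtain ⟨cy, hcy⟩ := exists_int_one hy
    obtain rfl : c = -cy := by
      have : ((-cy : ℤ) : ℂ) = (c : ℂ) := by rw [Int.cast_neg, ← hcy]; exact hc
      exact_mod_cast this.symm
    obtain ⟨r1, hr1⟩ := ihy hcy
    rw [show (⟨-y, neg_mem hy⟩ : zChar A) = -⟨y, hy⟩ from rfl, Int.cast_neg]
    rcases hp.out.eq_two_or_odd' with h2 | hodd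
    · subst h2
      rcases a with _ | a
      · refine ⟨-r1, ?_⟩
        simp only [pow_zero, pow_one] at hr1 ⊢
        linear_combination -hr1
      · refine ⟨r1 + (cy : zChar A), ?_⟩
        rw [Even.neg_pow ((Nat.even_pow' (Nat.succ_ne_zero a)).2 even_two)]
        push_cast at hr1 ⊢
        simp only [Nat.succ_eq_add_one] at hr1 ⊢
        linear_combination hr1
    · refine ⟨-r1, ?_⟩
      rw [Odd.neg_pow hodd.pow]
      linear_combination -hr1
  | mul y z hy hz ihy ihz =>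
    obtain ⟨cy, hcy⟩ := exists_int_one hy
    obtain ⟨cz, hcz⟩ := exists_int_one hz
    obtain rfl : c = cy * cz := by
      have : ((cy * cz : ℤ) : ℂ) = (c : ℂ) := by rw [Int.cast_mul, ← hcy, ← hcz]; exact hc
      exact_mod_cast this.symm
    rw [show (⟨y * z, mul_mem hy hz⟩ : zChar A) = ⟨y, hy⟩ * ⟨z, hz⟩ from rfl, Int.cast_mul,
      mul_pow]
    obtain ⟨r1, hr1⟩ := ihy hcy
    obtain ⟨r2, hr2⟩ := ihz hcz
    refine ⟨r1 * (cz : zChar A) + (⟨y, hy⟩ : zChar A) ^ p ^ a * r2, ?_⟩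
    linear_combination (cz : zChar A) * hr1 + (⟨y, hy⟩ : zChar A) ^ p ^ a * hr2

/-- A power of a generalised character with augmentation prime to `p` is one modulo `p n`. -/
theorem exists_pow_sub_one (hn : Nat.card A = p ^ a) (F : zChar A) {c : ℤ}
    (hc : (F : A → ℂ) 1 = (c : ℂ)) (hpc : ¬ (p : ℤ) ∣ c) :
    ((p * Nat.card A : ℕ) : zChar A) ∣ F ^ (Nat.card A * (p - 1) * Nat.card A) - 1 := by
  have h1 : (p : zChar A) ∣ F ^ (Nat.card A * (p - 1)) - 1 := by
    have h2 : (p : zChar A) ∣ F ^ (Nat.card A * (p - 1)) - (c : zChar A) ^ (p - 1) := by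
      rw [pow_mul]
      exact (dvd_pow_sub_one hn F hc).trans (sub_dvd_pow_sub_pow _ _ _)
    have hf : (p : ℤ) ∣ c ^ (p - 1) - 1 := by
      have := (Int.ModEq.pow_card_sub_one_eq_one hp.out
        (Int.isCoprime_iff_gcd_eq_one.mpr ?_ : IsCoprime c (p : ℤ))).symm.dvd
      · simpa using this
      · exact Int.isCoprime_iff_gcd_eq_one.1
          ((((Nat.prime_iff_prime_int.1 hp.out).irreducible).coprime_iff_not_dvd.2 hpc).symm)
    obtain ⟨k, hk⟩ := hf
    obtain ⟨r, hr⟩ := h2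
    refine ⟨r + (k : zChar A), ?_⟩
    have hk' : (c : zChar A) ^ (p - 1) - 1 = (p : zChar A) * (k : zChar A) := by
      exact_mod_cast congrArg (Int.cast : ℤ → zChar A) hk
    linear_combination hr + hk'
  have h3 := dvd_sub_pow_of_dvd_sub h1 a
  rw [one_pow, ← pow_mul] at h3
  rw [pow_succ'] at h3
  rw [hn]
  push_cast
  rw [hn] at h3
  exact h3

variable (p)

/-- Congruence modulo the order off the identity. -/
def Cong (H F : A → ℂ) : Prop :=
  ∀ x : A, x ≠ 1 → ∃ w ∈ pInt p hp.out, H x - F x = (Nat.card A : ℂ) * w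

/-- Congruent to a generalised character. -/
def Good (H : A → ℂ) : Prop := ∃ F ∈ zChar A, Cong p H F

/-- Congruent to a generalised character with augmentation prime to `p`. -/
def GoodUnit (H : A → ℂ) : Prop :=
  ∃ F ∈ zChar A, (∃ c : ℤ, F 1 = (c : ℂ) ∧ ¬ (p : ℤ) ∣ c) ∧ Cong p H F

variable {p}

theorem GoodUnit.good {H : A → ℂ} (h : GoodUnit p H) : Good p H :=
  ⟨h.choose, h.choose_spec.1, h.choose_spec.2.2⟩

theorem Cong.refl (F : A → ℂ) : Cong p F F :=
  fun _ _ => ⟨0, zero_mem _, by simp⟩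

theorem Cong.mem_pInt {H F : A → ℂ} (hF : F ∈ zChar A) (h : Cong p H F) {x : A} (hx : x ≠ 1) :
    H x ∈ pInt p hp.out := by
  obtain ⟨w, hw, e⟩ := h x hx
  rw [show H x = F x + (Nat.card A : ℂ) * w by linear_combination e]
  exact add_mem (mem_pInt_of_isIntegral hp.out (isIntegral_zChar hF x))
    (mul_mem (natCast_mem _ _) hw)

theorem Cong.mul {H F H' F' : A → ℂ} (hF : F ∈ zChar A) (hF' : F' ∈ zChar A) (h : Cong p H F)
    (h' : Cong p H' F') : Cong p (H * H') (F * F') := by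
  intro x hx
  obtain ⟨w, hw, e⟩ := h x hx
  obtain ⟨w', hw', e'⟩ := h' x hx
  refine ⟨w * H' x + F x * w', add_mem (mul_mem hw (h'.mem_pInt hF' hx))
    (mul_mem (mem_pInt_of_isIntegral hp.out (isIntegral_zChar hF x)) hw'), ?_⟩
  simp only [Pi.mul_apply]
  linear_combination H' x * e + F x * e'

theorem GoodUnit.one : GoodUnit p (1 : A → ℂ) :=
  ⟨1, one_mem _, ⟨1, by simp, fun h => hp.out.one_lt.ne'
    (by exact_mod_cast Int.eq_one_of_dvd_one (by positivity) h)⟩, Cong.refl _⟩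

theorem GoodUnit.mul {H H' : A → ℂ} (h : GoodUnit p H) (h' : GoodUnit p H') :
    GoodUnit p (H * H') := by
  obtain ⟨F, hF, ⟨c, hc, hpc⟩, hcg⟩ := h
  obtain ⟨F', hF', ⟨c', hc', hpc'⟩, hcg'⟩ := h'
  exact ⟨F * F', mul_mem hF hF', ⟨c * c', by simp [hc, hc'],
    (Nat.prime_iff_prime_int.1 hp.out).not_dvd_mul hpc hpc'⟩, hcg.mul hF hF' hcg'⟩

theorem Good.mul {H H' : A → ℂ} (h : Good p H) (h' : Good p H') : Good p (H * H') :=
  ⟨_, mul_mem h.choose_spec.1 h'.choose_spec.1,
    h.choose_spec.2.mul h.choose_spec.1 h'.choose_spec.1 h'.choose_spec.2⟩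

theorem GoodUnit.pow {H : A → ℂ} (h : GoodUnit p H) : ∀ k : ℕ, GoodUnit p (H ^ k)
  | 0 => by rw [pow_zero]; exact GoodUnit.one
  | k + 1 => by rw [pow_succ]; exact (GoodUnit.pow h k).mul h

theorem GoodUnit.prod {ι : Type*} (s : Finset ι) {H : ι → A → ℂ}
    (h : ∀ i ∈ s, GoodUnit p (H i)) : GoodUnit p (∏ i ∈ s, H i) :=
  Finset.prod_induction _ _ (fun _ _ => GoodUnit.mul) GoodUnit.one h

/-- The inverse is congruent to a power. -/
theorem GoodUnit.inv (hn : Nat.card A = p ^ a) {H : A → ℂ} (h : GoodUnit p H)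
    (h0 : ∀ x, x ≠ 1 → H x ≠ 0) (hi : ∀ x, x ≠ 1 → (H x)⁻¹ ∈ pInt p hp.out) :
    GoodUnit p (fun x => (H x)⁻¹) := by
  obtain ⟨F, hF, ⟨c, hc, hpc⟩, hcg⟩ := h
  obtain ⟨r, hr⟩ := exists_pow_sub_one hn ⟨F, hF⟩ hc hpc
  set L := Nat.card A * (p - 1) * Nat.card A
  have hL : L ≠ 0 := Nat.mul_ne_zero (Nat.mul_ne_zero Nat.card_pos.ne'
    (Nat.sub_ne_zero_of_lt hp.out.one_lt)) Nat.card_pos.ne'
  refine ⟨F ^ (L - 1), pow_mem hF _, ⟨c ^ (L - 1), by simp [hc],
    fun h => hpc ((Nat.prime_iff_prime_int.1 hp.out).dvd_of_dvd_pow h)⟩, fun x hx => ?_⟩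
  obtain ⟨w, hw, e⟩ := hcg x hx
  have hr' : F x ^ L - 1 = ((p * Nat.card A : ℕ) : ℂ) * (r : A → ℂ) x := by
    have := congrFun (congrArg Subtype.val hr) x
    simpa using this
  refine ⟨-((H x)⁻¹ * (w * F x ^ (L - 1) + (p : ℂ) * (r : A → ℂ) x)),
    neg_mem (mul_mem (hi x hx) (add_mem (mul_mem hw (pow_mem (mem_pInt_of_isIntegral hp.out
      (isIntegral_zChar hF x)) _)) (mul_mem (natCast_mem _ _) (mem_pInt_of_isIntegral hp.out
      (isIntegral_zChar r.2 x))))), ?_⟩
  have hpow : F x ^ L = F x * F x ^ (L - 1) := by rw [← pow_succ', Nat.sub_add_cancel (by omega)]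
  rw [hpow] at hr'
  rw [Nat.cast_mul] at hr'
  have hHx : H x * (H x)⁻¹ = 1 := mul_inv_cancel₀ (h0 x hx)
  simp only [Pi.pow_apply]
  linear_combination -(H x)⁻¹ * hr' + F x ^ (L - 1) * hHx - (H x)⁻¹ * F x ^ (L - 1) * e

/-- An algebraic integer of absolute value one congruent to one modulo `q ≥ 3` is one. -/
theorem eq_one_of_congr {N : ℕ} (hN : 0 < N) {z : ℂ} (hzf : z ∈ KGV.rootField N)
    (hz : IsIntegral ℤ z) (habs : z * conj z = 1) {q : ℕ} (hq : 3 ≤ q) {b : ℂ}
    (hb : IsIntegral ℤ b) (hzb : z - 1 = (q : ℂ) * b) : z = 1 := by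
  by_contra hne
  have hb0 : b ≠ 0 := fun h => hne (by rw [h, mul_zero, sub_eq_zero] at hzb; exact hzb)
  have hq0 : (q : ℂ) ≠ 0 := Nat.cast_ne_zero.2 (by omega)
  have hbm : b ∈ KGV.rootField N := by
    rw [show b = (z - 1) / (q : ℂ) by rw [hzb, mul_div_cancel_left₀ _ hq0]]
    exact div_mem (sub_mem hzf (one_mem _)) (natCast_mem _ _)
  let f : Option (Fin (q * q)) → ℂ := fun o => o.elim (1 + z) (fun _ => b)
  have hsum : ∑ o, f o * conj (f o) = ((4 : ℚ) : ℂ) := by
    have h1 : (q : ℂ) * b * conj ((q : ℂ) * b) = 2 - z - conj z := by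
      rw [← hzb, map_sub, map_one]
      linear_combination habs
    simp only [f, Fintype.sum_option, Option.elim_none, Option.elim_some, Finset.sum_const,
      Finset.card_univ, Fintype.card_fin, nsmul_eq_mul, map_add, map_one, Nat.cast_mul]
    rw [map_mul, Complex.conj_natCast] at h1
    push_cast
    linear_combination habs + h1
  have h := KGV.card_ne_zero_le_sum_normSq Finset.univ hN f
    (fun o _ => by cases o <;> simp only [f, Option.elim_none, Option.elim_some]
                   · exact add_mem (one_mem _) hzf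
                   · exact hbm)
    (fun o _ => by cases o <;> simp only [f, Option.elim_none, Option.elim_some]
                   · exact isIntegral_one.add hz
                   · exact hb) 4 hsum
  have hc : q * q ≤ (Finset.univ.filter fun o => f o ≠ 0).card := by
    calc q * q = ((Finset.univ : Finset (Fin (q * q))).map Function.Embedding.some).card := by
          simp
      _ ≤ _ := Finset.card_le_card fun o ho => by
          obtain ⟨i, -, rfl⟩ := Finset.mem_map.1 ho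
          simp [f, hb0]
  have h9 : 9 ≤ q * q := Nat.mul_le_mul hq hq
  have : ((Finset.univ.filter fun o => f o ≠ 0).card : ℝ) ≤ ((4 : ℕ) : ℝ) := by
    simpa using h
  have := Nat.cast_le.1 this
  omega

/-- A good unit of absolute value one with augmentation one is a root of unity. -/
theorem pow_eq_one_of_goodUnit (hn : Nat.card A = p ^ a) (ha : a ≠ 0) {u F : A → ℂ}
    (hF : F ∈ zChar A) {c : ℤ} (hc : F 1 = (c : ℂ)) (hpc : (p : ℤ) ∣ c - 1) (hcg : Cong p u F)
    (hu : u ∈ qChar A) {x : A} (hx : x ≠ 1) (hint : IsIntegral ℤ (u x))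
    (habs : u x * conj (u x) = 1) : u x ^ (Nat.card A * Nat.card A) = 1 := by
  set n := Nat.card A with hndef
  obtain ⟨r, hr⟩ : ((p * n : ℕ) : zChar A) ∣ (⟨F, hF⟩ : zChar A) ^ (n * n) - 1 := by
    have h1 : (p : zChar A) ∣ (⟨F, hF⟩ : zChar A) ^ n - 1 := by
      obtain ⟨k, hk⟩ := hpc
      obtain ⟨r, hr⟩ := dvd_pow_sub_one hn ⟨F, hF⟩ hc
      have hk' : (c : zChar A) - 1 = (p : zChar A) * (k : zChar A) := by
        exact_mod_cast congrArg (Int.cast : ℤ → zChar A) hk
      exact ⟨r + (k : zChar A), by linear_combination hr + hk'⟩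
    have h3 := dvd_sub_pow_of_dvd_sub h1 a
    rw [one_pow, ← pow_mul, pow_succ', ← hn] at h3
    push_cast
    rw [hn] at h3 ⊢
    push_cast at h3
    exact_mod_cast h3
  obtain ⟨w, hw, e⟩ := hcg x hx
  -- raise the congruence
  set S : Subring ℂ := pInt p hp.out
  have hFx : F x ∈ S := mem_pInt_of_isIntegral hp.out (isIntegral_zChar hF x)
  have hux : u x ∈ S := mem_pInt_of_isIntegral hp.out hint
  have h4 : ((n : ℕ) : S) ∣ (⟨u x, hux⟩ : S) - ⟨F x, hFx⟩ := ⟨⟨w, hw⟩, Subtype.ext (by simp only [AddSubgroupClass.coe_sub, MulMemClass.coe_mul, SubringClass.coe_natCast]; exact e)⟩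
  have h5 : (p : S) ∣ (⟨u x, hux⟩ : S) - ⟨F x, hFx⟩ := by
    refine (Nat.cast_dvd_cast ?_).trans h4
    rw [hn]
    exact dvd_pow_self p ha
  obtain ⟨v, hv⟩ := (dvd_sub_pow_of_dvd_sub h5 a).trans
    (sub_dvd_pow_sub_pow ((⟨u x, hux⟩ : S) ^ p ^ a) ((⟨F x, hFx⟩ : S) ^ p ^ a) n)
  have hr' : F x ^ (n * n) - 1 = ((p * n : ℕ) : ℂ) * (r : A → ℂ) x := by
    have := congrFun (congrArg Subtype.val hr) x
    simpa using this
  have hv' : u x ^ (n * n) - F x ^ (n * n) = ((p * n : ℕ) : ℂ) * (v : ℂ) := by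
    have h6 := congrArg Subtype.val hv
    simp only [AddSubgroupClass.coe_sub, SubmonoidClass.coe_pow, MulMemClass.coe_mul] at h6
    rw [← pow_mul, ← pow_mul, ← hn] at h6
    rw [h6, Nat.cast_mul, hn, pow_succ']
    simp
  set z := u x ^ (n * n) with hzdef
  set b := (r : A → ℂ) x + (v : ℂ) with hbdef
  have hzb : z - 1 = ((p * n : ℕ) : ℂ) * b := by rw [hbdef]; linear_combination hv' + hr'
  have hz : IsIntegral ℤ z := hint.pow _
  have hb : IsIntegral ℤ b := by
    refine isIntegral_of_pInt hp.out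
      (add_mem (mem_pInt_of_isIntegral hp.out (isIntegral_zChar r.2 x)) v.2) (a := a + 1) ?_
    rw [pow_succ', ← hn, ← hzb]
    exact hz.sub isIntegral_one
  refine eq_one_of_congr (N := n) Nat.card_pos (pow_mem (mem_rootField_qChar hu x) _) hz ?_ ?_ hb hzb
  · rw [hzdef, map_pow, ← mul_pow, habs, one_pow]
  · have h2 := hp.out.two_le
    have : 2 ≤ n := by
      rw [hn]
      exact h2.trans (Nat.le_self_pow ha p)
    nlinarith

/-- The coefficients of the differences are integers. -/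
theorem exists_int_coef (hn : Nat.card A = p ^ a) {h : A → ℂ} (hq : h ∈ qChar A) (hg : Good p h)
    (hint : ∀ x, x ≠ 1 → IsIntegral ℤ (h x)) (l : A →* ℂˣ) :
    ∃ z : ℤ, (Nat.card A : ℂ)⁻¹ * ∑ x : A, ((l x : ℂ) - 1) * h x = (z : ℂ) := by
  set n := Nat.card A with hndef
  have hn0 : (n : ℂ) ≠ 0 := Nat.cast_ne_zero.2 Nat.card_pos.ne'
  set q := (n : ℂ)⁻¹ * ∑ x : A, ((l x : ℂ) - 1) * h x with hqdef
  have hcoef : ∀ g : A → ℂ, (n : ℂ)⁻¹ * ∑ x : A, ((l x : ℂ) - 1) * g x =
      coefAt A g l - coefAt A g 1 := by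
    intro g
    rw [coefAt, coefAt, ← mul_sub, ← Finset.sum_sub_distrib]
    exact congrArg _ (Finset.sum_congr rfl fun x _ => by simp; ring)
  obtain ⟨c1, hc1⟩ := coefAt_qChar hq l
  obtain ⟨c2, hc2⟩ := coefAt_qChar hq 1
  have hrat : q = ((c1 - c2 : ℚ) : ℂ) := by rw [hqdef, hcoef, hc1, hc2]; push_cast; rfl
  obtain ⟨F, hF, hcg⟩ := hg
  choose! w hw hwe using hcg
  have hp1 : q ∈ pInt p hp.out := by
    have e : q = (coefAt A F l - coefAt A F 1) + ∑ x : A, ((l x : ℂ) - 1) * w x := by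
      rw [hqdef, ← hcoef, Finset.mul_sum, Finset.mul_sum, ← Finset.sum_add_distrib]
      refine Finset.sum_congr rfl fun x _ => ?_
      by_cases hx : x = 1
      · simp [hx]
      · have := hwe x hx
        field_simp
        linear_combination ((l x : ℂ) - 1) * this
    rw [e]
    obtain ⟨d1, hd1⟩ := coefAt_zChar hF l
    obtain ⟨d2, hd2⟩ := coefAt_zChar hF 1
    rw [hd1, hd2]
    refine add_mem (sub_mem (intCast_mem _ _) (intCast_mem _ _)) (sum_mem fun x _ => ?_)
    by_cases hx : x = 1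
    · simp [hx]
    · exact mul_mem (sub_mem (mem_pInt_of_isIntegral hp.out (isIntegral_hom l x)) (one_mem _))
        (hw x hx)
  have hnq : IsIntegral ℤ (((p ^ a : ℕ) : ℂ) * q) := by
    rw [← hn, hqdef, ← mul_assoc, mul_inv_cancel₀ hn0, one_mul]
    refine IsIntegral.sum _ fun x _ => ?_
    by_cases hx : x = 1
    · simp [hx, isIntegral_zero]
    · exact ((isIntegral_hom l x).sub isIntegral_one).mul (hint x hx)
  have hi := isIntegral_of_pInt hp.out hp1 hnq
  rw [hrat] at hi ⊢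
  obtain ⟨z, hz⟩ := IsIntegrallyClosed.isIntegral_iff.1
    ((isIntegral_algebraMap_iff (algebraMap ℚ ℂ).injective).1
      (show IsIntegral ℤ (algebraMap ℚ ℂ (c1 - c2)) from hi))
  exact ⟨z, by rw [← hz]; simp⟩

end Congr

end CfsgLib.FreeInertial
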