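import Cfsg.Agent.Lib.BPStar.Watanabe
import Cfsg.Agent.Lib.NilBlk.Main
import Cfsg.Agent.Lib.Characters.Ito
import Cfsg.Agent.Lib.FreeInertial.Coeff

/-!
# Sections with nilpotent local block of an abelian defect group

At an element `x` of the defect group whose stabiliser in the inertial group centralises the defect
group the block below the maximal pair is nilpotent: its characters have one degree, one regular
part, and are as many as the elements of the defect group.
-/

set_option autoImplicit false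
set_option linter.unusedSectionVars false
set_option linter.style.haveILetI false

namespace CfsgLib.FreeInertial

open Cfsg MonoidAlgebra CfsgLib.Blocks CfsgLib.BrauerPairs CfsgLib.BPStar CfsgLib.Characters
open scoped Classical ComplexConjugate

universe u

variable {p : ℕ} [Fact p.Prime] {M : Ideal AlgInt} [M.IsMaximal]
variable {G : Type u} [Group G] [Fintype G]
variable {B : Set (IrrCharacter G)} {P : Subgroup G}
variable {e : Set (IrrCharacter (Subgroup.centralizer (P : Set G)))}
variable {hM : IsPModular p M}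

/-- The stabiliser of the maximal pair centralises `P`. -/
def Central (hM : IsPModular p M) (P : Subgroup G)
    (e : Set (IrrCharacter (Subgroup.centralizer (P : Set G)))) : Prop :=
  ∀ t ∈ pairStab P (eA hM (cz P) e), t ∈ cz P

/-- The elements of the stabiliser fixing `x` centralise `P`. -/
def SecNil (hM : IsPModular p M) (P : Subgroup G)
    (e : Set (IrrCharacter (Subgroup.centralizer (P : Set G)))) (x : P) : Prop :=
  ∀ t ∈ pairStab P (eA hM (cz P) e), t * (x : G) * t⁻¹ = x → t ∈ cz P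

theorem Central.secNil (hc : Central hM P e) (x : P) : SecNil hM P e x := fun t ht _ => hc t ht

/-- Without inertia the block is nilpotent. -/
theorem nilCtx_of_central (c : AbCtx hM B P e) (hc : Central hM P e) :
    NilBlk.NilCtx hM B P e := by
  refine ⟨NilBlk.starCtx_trivial hM c.hmax, fun u g g' b h1 h2 => ?_⟩
  set x : P := ⟨g * u * g⁻¹, mem_of_pairLE h1⟩
  set y : P := ⟨g' * u * g'⁻¹, mem_of_pairLE h2⟩
  have hgx : conjA g b = subA p P (eA hM (cz P) e) (g * u * g⁻¹) :=
    eq_subA hM c.block c.pgroup x (by rw [← conjPair_eq_zpowers]; exact h1)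
  have hgy : conjA g' b = subA p P (eA hM (cz P) e) (g' * u * g'⁻¹) :=
    eq_subA hM c.block c.pgroup y (by rw [← conjPair_eq_zpowers]; exact h2)
  obtain ⟨t, ht, htx⟩ := c.mem_clsOf_iff.1 (mem_clsOf.2 ⟨g' * g⁻¹,
    show g' * g⁻¹ * (g * u * g⁻¹) * (g' * g⁻¹)⁻¹ = g' * u * g'⁻¹ by group, by
      show conjA (g' * g⁻¹) (subA p P _ (g * u * g⁻¹)) = subA p P _ (g' * u * g'⁻¹)
      rw [← hgx, ← conjA_mul_left, inv_mul_cancel_right, hgy]⟩ :
      y ∈ clsOf p P (eA hM (cz P) e) x)
  refine ⟨1, one_mem _, ?_⟩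
  rw [one_mul, inv_one, mul_one, show g' * u * g'⁻¹ = (y : G) from rfl, ← htx,
    ← mem_cz.1 (hc t ht) x x.2]
  simp [x]

theorem card_irr_comm {A : Type u} [Group A] [Finite A] (hA : ∀ a b : A, a * b = b * a) :
    Nat.card (IrrCharacter A) = Nat.card A ∧
      ∀ lam : IrrCharacter A, charDegree (lam : A → ℂ) = 1 := by
  haveI : IsMulCommutative A := ⟨⟨hA⟩⟩
  have hdeg : ∀ lam : IrrCharacter A, (lam : A → ℂ) 1 = 1 := fun lam => CharIto.degree_one_of_comm lam.2
  refine ⟨?_, fun lam => ?_⟩
  · rw [← Homo949.card_dual hA, ← Nat.card_congr CharIto.linearIrrEquiv]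
    exact (Nat.card_congr (Equiv.subtypeUnivEquiv hdeg)).symm
  · have h := hdeg lam
    rw [CharCorr.irr_one_eq_charDegree] at h
    exact_mod_cast h

/-- A block without inertia: one degree, one regular part, `|P|` members, rank one. -/
theorem exists_central_data (c : AbCtx hM B P e) (hc : Central hM P e) :
    ∃ φ : ℕ, 0 < φ ∧ (∀ η ∈ B, (η : G → ℂ) 1 = (φ : ℂ)) ∧
      (∀ η ∈ B, ∀ η' ∈ B, ∀ s : G, ¬ p ∣ orderOf s → (η : G → ℂ) s = (η' : G → ℂ) s) ∧
      Nat.card B = Nat.card P ∧ blockRank p B = 1 := by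
  obtain ⟨χ₀, hχ₀, Φ, hΦ⟩ := NilBlk.exists_equiv (nilCtx_of_central c hc)
  have hcomm : ∀ a b : P, a * b = b * a := fun a b =>
    Subtype.ext (mem_cz.1 (c.comm b.2) a a.2)
  obtain ⟨hcard, hdeg⟩ := card_irr_comm hcomm
  have hreg : ∀ η ∈ B, pRegularPart p (η : G → ℂ) = pRegularPart p (χ₀ : G → ℂ) := fun η hη => by
    funext g
    have h := (hΦ (Φ.symm ⟨η, hη⟩)).2 g
    rwa [Equiv.apply_symm_apply, hdeg, Nat.cast_one, one_mul] at h
  have hval : ∀ η ∈ B, ∀ s : G, ¬ p ∣ orderOf s → (η : G → ℂ) s = (χ₀ : G → ℂ) s :=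
    fun η hη s hs => by
      have h := congrFun (hreg η hη) s
      simpa [pRegularPart, IsPRegular, hs] using h
  refine ⟨charDegree (χ₀ : G → ℂ), (CfsgLib.ClassCount.degree_eq χ₀).2.2, fun η hη => ?_,
    fun η hη η' hη' s hs => by rw [hval η hη s hs, hval η' hη' s hs], ?_, ?_⟩
  · rw [hval η hη 1 (by rw [orderOf_one]; exact hM.1.not_dvd_one),
      CharCorr.irr_one_eq_charDegree]
  · rw [← Nat.card_congr Φ, hcard]
  · have hne : pRegularPart p (χ₀ : G → ℂ) ≠ 0 := fun h => irr_one_ne_zero χ₀ (by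
      have h1 := congrFun h 1
      have : ¬ p ∣ orderOf (1 : G) := by rw [orderOf_one]; exact hM.1.not_dvd_one
      simp only [pRegularPart, Pi.zero_apply] at h1
      rwa [if_pos (show IsPRegular p (1 : G) from this)] at h1)
    rw [blockRank, show (fun χ : IrrCharacter G => pRegularPart p (χ : G → ℂ)) '' B =
      {pRegularPart p (χ₀ : G → ℂ)} from ?_]
    · exact finrank_span_singleton hne
    · ext f
      simp only [Set.mem_image, Set.mem_singleton_iff]
      exact ⟨fun ⟨η, hη, hf⟩ => hf ▸ hreg η hη, fun hf => ⟨χ₀, hχ₀, hf.symm⟩⟩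

/-- Column orthogonality on one section. -/
theorem sum_section_cz (hM : IsPModular p M) {x : G} (hx : ∃ k : ℕ, orderOf x = p ^ k)
    {a a' : cz (Subgroup.zpowers x)} (ha : ¬ p ∣ orderOf a) (ha' : ¬ p ∣ orderOf a') :
    ∑ χ : IrrCharacter G, (χ : G → ℂ) (x * a) * conj ((χ : G → ℂ) (x * a')) =
      ∑ η : IrrCharacter (cz (Subgroup.zpowers x)),
        (η : cz (Subgroup.zpowers x) → ℂ) a * conj ((η : cz (Subgroup.zpowers x) → ℂ) a') := by
  let ε : cz (Subgroup.zpowers x) ≃* Subgroup.centralizer ({x} : Set G) :=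
    MulEquiv.subgroupCongr (cz_zpowers x)
  have h := SubsectionNorm.section_orth hM hx (c := ε a) (d := ε a')
    (by rw [MulEquiv.orderOf_eq]; exact ha) (by rw [MulEquiv.orderOf_eq]; exact ha')
  rw [show ((ε a : Subgroup.centralizer ({x} : Set G)) : G) = a from rfl,
    show ((ε a' : Subgroup.centralizer ({x} : Set G)) : G) = a' from rfl] at h
  rw [h, column_orth, column_orth]
  have hc : IsConj (ε a) (ε a') ↔ IsConj a a' :=
    ⟨fun h => by simpa using MonoidHom.map_isConj ε.symm.toMonoidHom h,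
      fun h => MonoidHom.map_isConj ε.toMonoidHom h⟩
  by_cases hca : IsConj a a'
  · rw [if_pos hca, if_pos (hc.2 hca), Nat.cast_inj]
    refine (Nat.card_congr (Equiv.subtypeEquiv ε.toEquiv fun z => ?_)).symm
    rw [Subgroup.mem_centralizer_singleton_iff, Subgroup.mem_centralizer_singleton_iff,
      MulEquiv.toEquiv_eq_coe, EquivLike.coe_coe, ← map_mul, ← map_mul, ε.injective.eq_iff]
  · rw [if_neg hca, if_neg fun h => hca (hc.1 h)]

variable (c : AbCtx hM B P e)
include c

/-- The block below the maximal pair at `x`. -/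
noncomputable def bx (x : P) : Set (IrrCharacter (cz (Subgroup.zpowers (x : G)))) :=
  (c.exists_local x).choose

theorem bx_spec (x : P) :
    IsPBlock M (bx c x) ∧
      eA hM (cz (Subgroup.zpowers (x : G))) (bx c x) = subA p P (eA hM (cz P) e) x ∧
      brMap (ResK M) P (eA hM (cz (Subgroup.zpowers (x : G))) (bx c x)) * eA hM (cz P) e =
        eA hM (cz P) e ∧
      PairLE p (Subgroup.zpowers (x : G), eA hM (cz (Subgroup.zpowers (x : G))) (bx c x))
        (P, eA hM (cz P) e) := by
  obtain ⟨hf, hfa, -, -, hov⟩ := (c.exists_local x).choose_spec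
  exact ⟨hf, hfa, hov.cover, hfa ▸ subA_le hM c.block c.pgroup x⟩

/-- The block at `x` carries the same structure as a block without inertia. -/
theorem exists_sec_data {x : P} (hx : SecNil hM P e x) :
    ∃ φ : ℕ, 0 < φ ∧ (∀ η ∈ bx c x, (η : cz (Subgroup.zpowers (x : G)) → ℂ) 1 = (φ : ℂ)) ∧
      (∀ η ∈ bx c x, ∀ η' ∈ bx c x, ∀ s, ¬ p ∣ orderOf s → (η : cz (Subgroup.zpowers (x : G)) → ℂ) s = (η' : cz (Subgroup.zpowers (x : G)) → ℂ) s) ∧
      Nat.card (bx c x) = Nat.card P ∧ blockRank p (bx c x) = 1 := by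
  obtain ⟨β, e', c', he', hcov⟩ := c.exists_inside x (H := cz (Subgroup.zpowers (x : G))) rfl
  have hPH := c.le_cz_zpowers x
  have hc' : Central hM (P.subgroupOf (cz (Subgroup.zpowers (x : G)))) e' := fun t ht => by
    refine (mem_cz_subgroupOf hPH t).2 (hx t ((pairStab_inside hPH he' t).1 ht) ?_)
    rw [← mem_cz.1 t.2 x (Subgroup.mem_zpowers _), mul_inv_cancel_right]
  obtain ⟨hf, -, hcov', -⟩ := bx_spec c x
  rw [show bx c x = β from
    eA_cover_unique c.pgroup c.block.ne_zero hPH hf c'.isPBlockB hcov' hcov]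
  obtain ⟨φ, h1, h2, h3, h4, h5⟩ := exists_central_data c' hc'
  exact ⟨φ, h1, h2, h3, h4.trans (Nat.card_congr (Subgroup.subgroupOfEquivOfLe hPH).toEquiv), h5⟩

/-- The common degree at `x`. -/
noncomputable def secDeg (x : P) : ℕ :=
  if hx : SecNil hM P e x then (exists_sec_data c hx).choose else 1

theorem secDeg_spec {x : P} (hx : SecNil hM P e x) :
    0 < secDeg c x ∧ (∀ η ∈ bx c x, (η : cz (Subgroup.zpowers (x : G)) → ℂ) 1 = (secDeg c x : ℂ)) ∧
      (∀ η ∈ bx c x, ∀ η' ∈ bx c x, ∀ s, ¬ p ∣ orderOf s → (η : cz (Subgroup.zpowers (x : G)) → ℂ) s = (η' : cz (Subgroup.zpowers (x : G)) → ℂ) s) ∧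
      Nat.card (bx c x) = Nat.card P ∧ blockRank p (bx c x) = 1 := by
  rw [secDeg, dif_pos hx]
  exact (exists_sec_data c hx).choose_spec

theorem exists_pow_orderOf (x : P) : ∃ k : ℕ, orderOf (x : G) = p ^ k := by
  rw [Subgroup.orderOf_coe]
  exact IsPGroup.iff_orderOf.1 c.pgroup x

/-- The value of `χ` on the subsection at `x`. -/
noncomputable def dlt (x : P) (χ : IrrCharacter G) : ℂ :=
  blockPart (bx c x) (secFun (x : G) (χ : G → ℂ)) 1

/-- The decomposition number at `x`. -/
noncomputable def dd (x : P) (χ : IrrCharacter G) : ℂ := dlt c x χ / (secDeg c x : ℂ)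

theorem dd_eq {x : P} (hx : SecNil hM P e x) (χ : IrrCharacter G) :
    dd c x χ = ∑ η ∈ Finset.univ.filter (· ∈ bx c x), secMult (x : G) (χ : G → ℂ) η := by
  obtain ⟨h0, h1, -⟩ := secDeg_spec c hx
  have hφ : (secDeg c x : ℂ) ≠ 0 := Nat.cast_ne_zero.2 h0.ne'
  rw [dd, dlt, blockPart_eq_sum, div_eq_iff hφ, Finset.sum_mul]
  exact Finset.sum_congr rfl fun η hη => by rw [h1 η (Finset.mem_filter.1 hη).2, secMult]

theorem isIntegral_dd {x : P} (hx : SecNil hM P e x) (χ : IrrCharacter G) :
    IsIntegral ℤ (dd c x χ) ∧ dd c x χ ∈ KGV.rootField (Nat.card G) := by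
  rw [dd_eq c hx]
  exact ⟨IsIntegral.sum _ fun η _ => (secMult_spec _ χ η).1,
    sum_mem fun η _ => (secMult_spec _ χ η).2⟩

theorem dd_ne_zero {x : P} (hx : SecNil hM P e x) {χ : IrrCharacter G} (hχ : χ ∈ B) :
    dd c x χ ≠ 0 :=
  div_ne_zero (blockPart_central_ne_zero hM c.hmax hχ x (c.comm x.2) (bx_spec c x).1
    (bx_spec c x).2.2.2) (Nat.cast_ne_zero.2 (secDeg_spec c hx).1.ne')

/-- Off the block the subsections vanish. -/
theorem dlt_eq_zero (x : P) {χ : IrrCharacter G} (hχ : χ ∉ B) : dlt c x χ = 0 := by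
  have := charP_res hM
  obtain ⟨hb, -, -, hle⟩ := bx_spec c x
  have hB' : IsPBlock M (blockOf M (χ : G → ℂ)) := isPBlock_blockOf χ
  refine blockPart_secFun_eq_zero hM hB' (mem_blockOf_self hM χ) (exists_pow_orderOf c x)
    (by rw [orderOf_one]; exact hM.1.not_dvd_one) hb fun hcov => ?_
  have hE := isBlockIdem_eG hM c.isPBlockB
  have hE' := isBlockIdem_eG hM hB'
  have hcB := (brMap_cover_iff hle hE.fixed hE.idem).2 c.cover
  dsimp only at hcB
  have hxp : IsPGroup p (Subgroup.zpowers (x : G)) := BPStar.isPGroup_zpowers (exists_pow_orderOf c x)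
  have hne := (isBlockIdem_eA hM hb).ne_zero
  apply hne
  rw [← hcov, ← hcB, ← mul_assoc, ← brMap_mul hxp (fixAlg_anti le_top hE'.fixed)
    (fixAlg_anti le_top hE.fixed), hE'.mul_eq_zero hE fun heq => hχ
      (eG_inj hM c.isPBlockB hB' heq.symm ▸ mem_blockOf_self hM χ), map_zero, zero_mul]

theorem sum_blk_mem (x : P) (F : IrrCharacter G → ℂ) :
    ∑ χ ∈ Finset.univ.filter (· ∈ B), dlt c x χ * F χ = ∑ χ : IrrCharacter G, dlt c x χ * F χ :=
  Finset.sum_subset (Finset.subset_univ _) fun χ _ hχ => by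
    rw [dlt_eq_zero c x fun h => hχ (Finset.mem_filter.2 ⟨Finset.mem_univ _, h⟩), zero_mul]

/-- The expansion of a subsection value on the regular part. -/
theorem dlt_expand (x : P) (χ : IrrCharacter G) :
    dlt c x χ = ∑ a ∈ Finset.univ.filter (fun a : cz (Subgroup.zpowers (x : G)) => ¬ p ∣ orderOf a),
      SubsectionNorm.ker (bx c x) 1 a * (χ : G → ℂ) ((x : G) * a) :=
  SubsectionNorm.blockPart_regular hM (bx_spec c x).1 _
    (by rw [orderOf_one]; exact hM.1.not_dvd_one)

/-- Orthogonality to the degrees. -/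
theorem sum_dlt_degree {x : P} (hx : x ≠ 1) :
    ∑ χ ∈ Finset.univ.filter (· ∈ B), dlt c x χ * (χ : G → ℂ) 1 = 0 := by
  rw [sum_blk_mem c x fun χ => (χ : G → ℂ) 1]
  simp only [dlt_expand, Finset.sum_mul, mul_assoc]
  rw [Finset.sum_comm]
  refine Finset.sum_eq_zero fun a ha => ?_
  rw [← Finset.mul_sum]
  have hne : ¬ IsConj ((x : G) * a) 1 := fun h => hx (by
    have h1 : (x : G) * a = 1 := isConj_one_left.1 h
    have hpp := isPPart_mul (commute_of_mem_cz a.2) (exists_pow_orderOf c x)
      (by rw [Subgroup.orderOf_coe]; exact (Finset.mem_filter.1 ha).2)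
    rw [h1] at hpp
    exact Subtype.ext (IsPPart.unique hM.1 hpp ⟨1, by simp, Commute.one_left _, ⟨0, by simp⟩,
      by rw [orderOf_one]; exact hM.1.not_dvd_one⟩))
  have h := column_orth (G := G) ((x : G) * a) 1
  rw [if_neg hne] at h
  rw [show ∑ χ : IrrCharacter G, (χ : G → ℂ) ((x : G) * a) * (χ : G → ℂ) 1 = 0 from ?_, mul_zero]
  rw [← h]
  refine Finset.sum_congr rfl fun χ _ => ?_
  rw [← irr_apply_inv χ (1 : G), inv_one]

/-- The value is equivariant. -/
theorem dlt_conj {x y : P} {t : G} (ht : t ∈ pairStab P (eA hM (cz P) e))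
    (hty : t * (x : G) * t⁻¹ = y) (χ : IrrCharacter G) : dlt c y χ = dlt c x χ := by
  have hval : ∀ z : P, dlt c z χ = liftVal hM (χ : G → ℂ) (z : G)
      (eA hM (cz (Subgroup.zpowers (z : G))) (bx c z)) := fun z => by
    rw [dlt, ← liftVal_eA hM (irr_isCharacter χ) (exists_pow_orderOf c z)
      (by rw [orderOf_one]; exact hM.1.not_dvd_one) (bx_spec c z).1]
    simp
  have hA : eA hM (cz (Subgroup.zpowers (y : G))) (bx c y) =
      conjA t (eA hM (cz (Subgroup.zpowers (x : G))) (bx c x)) := by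
    rw [(bx_spec c y).2.1, (bx_spec c x).2.1]
    refine (eq_subA hM c.block c.pgroup y ?_).symm
    have h := (subA_le hM c.block c.pgroup x).conj t
    rwa [conjPair_eq_zpowers, hty, show conjPair t (P, eA hM (cz P) e) = (P, eA hM (cz P) e) from
      Prod.ext (map_conj_eq_self ht.1) ht.2] at h
  have hbi := isBlockIdem_eA hM (bx_spec c x).1
  rw [hval, hval, hA, ← hty]
  refine liftVal_conj hM (irr_isCharacter χ) (u := (x : G)) ?_ hbi.idem
    (commute_single_of_conjA (hbi.fixed _ (mem_cz_self _))) t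
  have h := isPPart_sec (s := (1 : cz (Subgroup.zpowers (x : G)))) (exists_pow_orderOf c x)
    (by rw [orderOf_one]; exact hM.1.not_dvd_one)
  simpa using h

/-- The norm of a subsection column. -/
theorem sum_dlt_self {x : P} (hx : SecNil hM P e x) :
    ∑ χ ∈ Finset.univ.filter (· ∈ B), dlt c x χ * conj (dlt c x χ) =
      (Nat.card P : ℂ) * ((secDeg c x : ℂ) * (secDeg c x : ℂ)) := by
  obtain ⟨hb, -, -, -⟩ := bx_spec c x
  obtain ⟨-, h1, -, hk, -⟩ := secDeg_spec c hx
  set C := cz (Subgroup.zpowers (x : G)) with hC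
  set R := Finset.univ.filter (fun a : C => ¬ p ∣ orderOf a) with hR
  rw [sum_blk_mem c x fun χ => conj (dlt c x χ)]
  simp only [dlt_expand, map_sum, map_mul, Finset.sum_mul_sum]
  rw [Finset.sum_comm]
  calc _ = ∑ a ∈ R, ∑ a' ∈ R, SubsectionNorm.ker (bx c x) 1 a *
        conj (SubsectionNorm.ker (bx c x) 1 a') *
          ∑ η : IrrCharacter C, (η : C → ℂ) a * conj ((η : C → ℂ) a') := by
        refine Finset.sum_congr rfl fun a ha => ?_
        rw [Finset.sum_comm]
        refine Finset.sum_congr rfl fun a' ha' => ?_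
        rw [← sum_section_cz hM (exists_pow_orderOf c x) (Finset.mem_filter.1 ha).2
          (Finset.mem_filter.1 ha').2, Finset.mul_sum]
        exact Finset.sum_congr rfl fun χ _ => by ring
    _ = ∑ η : IrrCharacter C, (∑ a ∈ R, SubsectionNorm.ker (bx c x) 1 a * (η : C → ℂ) a) *
        conj (∑ a ∈ R, SubsectionNorm.ker (bx c x) 1 a * (η : C → ℂ) a) := by
        simp only [Finset.mul_sum, map_sum, Finset.sum_mul]
        rw [Finset.sum_comm (s := (Finset.univ : Finset (IrrCharacter C)))]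
        rw [Finset.sum_comm (s := R)]
        refine Finset.sum_congr rfl fun a _ => ?_
        rw [Finset.sum_comm (s := (Finset.univ : Finset (IrrCharacter C)))]
        exact Finset.sum_congr rfl fun a' _ => Finset.sum_congr rfl fun η _ => by
          rw [map_mul]; ring
    _ = ∑ η ∈ Finset.univ.filter (· ∈ bx c x), (secDeg c x : ℂ) * (secDeg c x : ℂ) := by
        rw [Finset.sum_filter]
        refine Finset.sum_congr rfl fun η _ => ?_
        rw [← SubsectionNorm.blockPart_regular hM hb _ (by rw [orderOf_one]; exact hM.1.not_dvd_one),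
          blockPart_irr]
        split_ifs with hη
        · rw [h1 η hη, Complex.conj_natCast]
        · simp
    _ = _ := by
        rw [Finset.sum_const, nsmul_eq_mul, ← hk, Nat.card_eq_fintype_card,
          ← Fintype.card_subtype]

/-- Different subsections are orthogonal. -/
theorem sum_dlt_ne {x y : P}
    (hxy : ∀ t ∈ pairStab P (eA hM (cz P) e), t * (x : G) * t⁻¹ ≠ y) :
    ∑ χ ∈ Finset.univ.filter (· ∈ B), dlt c x χ * conj (dlt c y χ) = 0 := by
  rw [sum_blk_mem c x fun χ => conj (dlt c y χ)]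
  by_cases hex : ∃ g : G, g * (x : G) * g⁻¹ = y
  swap
  · simp only [dlt_expand, map_sum, map_mul, Finset.sum_mul_sum]
    rw [Finset.sum_comm]
    refine Finset.sum_eq_zero fun a ha => ?_
    rw [Finset.sum_comm]
    refine Finset.sum_eq_zero fun a' ha' => ?_
    have hne : ¬ IsConj ((x : G) * a) ((y : G) * a') := fun h => hex (by
      obtain ⟨g, hg⟩ := isConj_iff.1 h
      have hpx := isPPart_mul (commute_of_mem_cz a.2) (exists_pow_orderOf c x)
        (by rw [Subgroup.orderOf_coe]; exact (Finset.mem_filter.1 ha).2)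
      have hpy := isPPart_mul (commute_of_mem_cz a'.2) (exists_pow_orderOf c y)
        (by rw [Subgroup.orderOf_coe]; exact (Finset.mem_filter.1 ha').2)
      have h1 := IsPPart.conj hpx g
      rw [hg] at h1
      exact ⟨g, IsPPart.unique hM.1 h1 hpy⟩)
    have h := column_orth (G := G) ((x : G) * a) ((y : G) * a')
    rw [if_neg hne] at h
    calc _ = SubsectionNorm.ker (bx c x) 1 a * conj (SubsectionNorm.ker (bx c y) 1 a') *
          ∑ χ : IrrCharacter G, (χ : G → ℂ) ((x : G) * a) * conj ((χ : G → ℂ) ((y : G) * a')) := by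
          rw [Finset.mul_sum]; exact Finset.sum_congr rfl fun χ _ => by ring
      _ = 0 := by rw [h, mul_zero]
  · obtain ⟨g, hg⟩ := hex
    set C := cz (Subgroup.zpowers (x : G)) with hC
    set a₂ := conjA g⁻¹ (eA hM (cz (Subgroup.zpowers (y : G))) (bx c y)) with ha₂
    have hblk : IsBlockIdem C a₂ := by
      have h := (isBlockIdem_eA hM (bx_spec c y).1).conjA g⁻¹
      rwa [← cz_map_conj, map_conj_zpowers, show g⁻¹ * (y : G) * g⁻¹⁻¹ = x by
        rw [← hg]; group] at h
    obtain ⟨b₂, hb₂, hb₂e⟩ := exists_eA_eq hM hblk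
    have hne : b₂ ≠ bx c x := fun h => by
      have h2 : conjA g (subA p P (eA hM (cz P) e) x) = subA p P (eA hM (cz P) e) y := by
        rw [← (bx_spec c x).2.1, ← h, hb₂e, ha₂, ← conjA_mul_left, mul_inv_cancel,
          conjA_one_left, (bx_spec c y).2.1]
      obtain ⟨t, ht, htx⟩ := c.mem_clsOf_iff.1 (mem_clsOf.2 ⟨g, hg, h2⟩ :
        y ∈ clsOf p P (eA hM (cz P) e) x)
      exact hxy t ht htx
    have h1o : ¬ p ∣ orderOf (1 : C) := by rw [orderOf_one]; exact hM.1.not_dvd_one
    have hdy : ∀ χ : IrrCharacter G, dlt c y χ = blockPart b₂ (secFun (x : G) (χ : G → ℂ)) 1 := by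
      intro χ
      have h1 := liftVal_eA hM (irr_isCharacter χ) (exists_pow_orderOf c y)
        (s := (1 : cz (Subgroup.zpowers (y : G))))
        (by rw [orderOf_one]; exact hM.1.not_dvd_one) (bx_spec c y).1
      have h2 := liftVal_eA hM (irr_isCharacter χ) (exists_pow_orderOf c x) h1o hb₂
      simp only [OneMemClass.coe_one, mul_one] at h1 h2
      rw [dlt, ← h1, ← h2, hb₂e, ha₂]
      have hbi := isBlockIdem_eA hM (bx_spec c y).1
      have hp := isPPart_sec (s := (1 : cz (Subgroup.zpowers (y : G)))) (exists_pow_orderOf c y)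
        (by rw [orderOf_one]; exact hM.1.not_dvd_one)
      have h3 := liftVal_conj hM (irr_isCharacter χ) (u := (y : G)) (h := (y : G))
        (by simpa using hp) hbi.idem (commute_single_of_conjA (hbi.fixed _ (mem_cz_self _))) g⁻¹
      rw [show g⁻¹ * (y : G) * g⁻¹⁻¹ = x by rw [← hg]; group] at h3
      exact h3.symm
    simp only [hdy]
    simp only [dlt, SubsectionNorm.blockPart_regular hM (bx_spec c x).1 _ h1o,
      SubsectionNorm.blockPart_regular hM hb₂ _ h1o, map_sum, map_mul, Finset.sum_mul_sum]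
    rw [Finset.sum_comm]
    set R := Finset.univ.filter (fun a : C => ¬ p ∣ orderOf a) with hR
    calc _ = ∑ a ∈ R, ∑ a' ∈ R, SubsectionNorm.ker (bx c x) 1 a *
          conj (SubsectionNorm.ker b₂ 1 a') *
            ∑ η : IrrCharacter C, (η : C → ℂ) a * conj ((η : C → ℂ) a') := by
          refine Finset.sum_congr rfl fun a ha => ?_
          rw [Finset.sum_comm]
          refine Finset.sum_congr rfl fun a' ha' => ?_
          rw [← sum_section_cz hM (exists_pow_orderOf c x) (Finset.mem_filter.1 ha).2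
            (Finset.mem_filter.1 ha').2, Finset.mul_sum]
          exact Finset.sum_congr rfl fun χ _ => by simp only [secFun]; ring
      _ = ∑ η : IrrCharacter C, (∑ a ∈ R, SubsectionNorm.ker (bx c x) 1 a * (η : C → ℂ) a) *
          conj (∑ a' ∈ R, SubsectionNorm.ker b₂ 1 a' * (η : C → ℂ) a') := by
          simp only [Finset.mul_sum, map_sum, Finset.sum_mul]
          rw [Finset.sum_comm (s := (Finset.univ : Finset (IrrCharacter C)))]
          rw [Finset.sum_comm (s := R)]
          refine Finset.sum_congr rfl fun a _ => ?_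
          rw [Finset.sum_comm (s := (Finset.univ : Finset (IrrCharacter C)))]
          exact Finset.sum_congr rfl fun a' _ => Finset.sum_congr rfl fun η _ => by
            rw [map_mul]; ring
      _ = 0 := by
          refine Finset.sum_eq_zero fun η _ => ?_
          rw [← SubsectionNorm.blockPart_regular hM (bx_spec c x).1 _ h1o,
            ← SubsectionNorm.blockPart_regular hM hb₂ _ h1o, blockPart_irr, blockPart_irr]
          split_ifs with h h'
          · exact absurd ((IsPBlock.eq_blockOf hM hb₂ h').trans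
              (IsPBlock.eq_blockOf hM (bx_spec c x).1 h).symm) hne
          · simp
          · simp
          · simp

end CfsgLib.FreeInertial
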