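import Cfsg.Agent.Lib.FreeInertial.Value

/-!
# Lifted idempotents at the subgroups of the defect group

For a nontrivial subgroup `Q` of the defect group the Brauer image of the idempotent gives a
generalised character of the defect group whose value at `x` is a root of unity times a natural
number attached to `⟨Q, x⟩`.
-/

set_option autoImplicit false
set_option linter.unusedSectionVars false
set_option linter.style.haveILetI false

namespace CfsgLib.FreeInertial

open Cfsg MonoidAlgebra CfsgLib.Blocks CfsgLib.BrauerPairs CfsgLib.BPStar CfsgLib.Characters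
open scoped Classical ComplexConjugate

universe u

variable {p : ℕ} [Fact p.Prime] {M : Ideal AlgInt} [M.IsMaximal]
variable {G : Type u} [Group G] [Fintype G]
variable {B : Set (IrrCharacter G)} {P : Subgroup G}
variable {e : Set (IrrCharacter (Subgroup.centralizer (P : Set G)))}
variable {hM : IsPModular p M}

/-- The idempotent below `(P, eP)` at a subgroup. -/
noncomputable def blkA (p : ℕ) {k : Type*} [Field k] (P : Subgroup G) (eP : MonoidAlgebra k G)
    (R : Subgroup G) : MonoidAlgebra k G :=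
  if h : ∃ f, PairLE p (R, f) (P, eP) then h.choose else 0

/-- The natural number attached to a subgroup. -/
noncomputable def mVal (hM : IsPModular p M) (P : Subgroup G) (eP J : MonoidAlgebra (ResK M) G)
    (R : Subgroup G) : ℕ :=
  if h : ∃ N : ℕ, (Nat.card P : ℂ) * (N : ℂ) ^ 2 *
      ((Nat.card (cz R) : ℂ) * oneC hM (blkA p P eP R)) =
        ((Nat.card (cz R) : ℂ) * oneC hM (brMap (ResK M) R J)) ^ 2
    then h.choose else 0

/-- An idempotent whose Brauer images lie below the maximal pair. -/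
structure SrcIdem (hM : IsPModular p M) (P : Subgroup G)
    (e : Set (IrrCharacter (Subgroup.centralizer (P : Set G))))
    (J : MonoidAlgebra (ResK M) G) : Prop where
  fix : J ∈ fixAlg (ResK M) P
  idem : IsIdempotentElem J
  loc : ∀ R, R ≤ P → brMap (ResK M) R J * blkA p P (eA hM (cz P) e) R = brMap (ResK M) R J

/-- The value at `x` times an element of the group ring. -/
noncomputable def fVal (hM : IsPModular p M) (χ : G → ℂ) (E : MonoidAlgebra (lRing hM) G)
    (x : P) : ℂ :=
  trR hM χ (single (x : G) 1 * E)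

/-- The coefficients of the values are natural numbers. -/
theorem exists_nat_coef (hM : IsPModular p M) {χ : G → ℂ} (hχ : IsCharacter G χ)
    {E : MonoidAlgebra (lRing hM) G} (hE : IsIdempotentElem E)
    (hEc : ∀ u : P, Commute (single (u : G) 1) E) (ν : P →* ℂˣ) :
    ∃ N : ℕ, (Nat.card P : ℂ)⁻¹ * ∑ u : P, fVal hM χ E u * (ν u : ℂ) = (N : ℂ) := by
  set c : ℂ := (Nat.card P : ℂ) with hc
  have hc0 : c ≠ 0 := Nat.cast_ne_zero.2 Nat.card_pos.ne'
  set S : MonoidAlgebra ℂ G := ∑ u : P, single (u : G) (ν u : ℂ) with hS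
  set Y : MonoidAlgebra ℂ G := inc hM E with hY
  have hYu : ∀ u : P, ∀ r : ℂ, Commute (single (u : G) r) Y := fun u r => by
    have h1 := (hEc u).map (inc hM)
    rw [inc_single] at h1
    rw [show single (u : G) r = r • single (u : G) (1 : ℂ) by simp]
    simpa using h1.smul_left r
  have hSS : S * S = c • S := by
    rw [hS, Finset.sum_mul_sum]
    have h1 : ∀ u : P, ∑ v : P, single (u : G) (ν u : ℂ) * single (v : G) (ν v : ℂ) =
        ∑ w : P, single (w : G) (ν w : ℂ) := fun u => by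
      refine Fintype.sum_equiv (Equiv.mulLeft u) _ _ fun v => ?_
      simp [single_mul_single]
    rw [Finset.sum_congr rfl fun u _ => h1 u, Finset.sum_const, Finset.card_univ,
      ← Nat.card_eq_fintype_card, hc, Nat.cast_smul_eq_nsmul]
  have hPi : IsIdempotentElem (c⁻¹ • S) := by
    rw [IsIdempotentElem, smul_mul_smul_comm, hSS, smul_smul, mul_assoc, inv_mul_cancel₀ hc0,
      mul_one]
  obtain ⟨N, hN⟩ := exists_nat_trC_idem hχ (hPi.mul_of_commute
    ((Commute.sum_left _ _ _ fun u _ => hYu u _).smul_left _) (hE.map (inc hM)))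
  refine ⟨N, ?_⟩
  rw [← hN, smul_mul_assoc, map_smul, smul_eq_mul, Finset.sum_mul, map_sum]
  refine congrArg _ (Finset.sum_congr rfl fun u _ => ?_)
  rw [show single (u : G) (ν u : ℂ) = (ν u : ℂ) • single (u : G) (1 : ℂ) by simp, smul_mul_assoc,
    map_smul, smul_eq_mul, fVal, trR, map_mul (inc hM), inc_single, mul_comm]
  rfl

variable (c : AbCtx hM B P e)
include c

theorem blkA_eq {R : Subgroup G} {f : MonoidAlgebra (ResK M) G}
    (hf : PairLE p (R, f) (P, eA hM (cz P) e)) : blkA p P (eA hM (cz P) e) R = f := by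
  have := charP_res hM
  have h : ∃ f, PairLE p (R, f) (P, eA hM (cz P) e) := ⟨f, hf⟩
  rw [blkA, dif_pos h]
  exact pairLE_unique (hasBlocks hM) (b := (P, eA hM (cz P) e)) c.block c.pgroup h.choose_spec hf

/-- A primitive idempotent with nonzero Brauer image in the maximal pair gives the data. -/
theorem srcIdem_of_prim {j : algAt (ResK M) (1 : G) P} (hj : IsPrim j)
    (hne : brMap (ResK M) P (j : MonoidAlgebra (ResK M) G) ≠ 0)
    (hje : brMap (ResK M) P (j : MonoidAlgebra (ResK M) G) * eA hM (cz P) e =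
      brMap (ResK M) P j) : SrcIdem hM P e (j : MonoidAlgebra (ResK M) G) := by
  have := charP_res hM
  refine ⟨j.2.1, hj.idem.map (algAt (ResK M) (1 : G) P).val, fun R hR => ?_⟩
  obtain ⟨f, -, hle⟩ := exists_pairLE (p := p) (hasBlocks hM) hR c.pgroup c.block
  rw [blkA_eq c hle]
  exact brMap_mul_of_pairLE (hasBlocks hM) (by rw [orderOf_one]; exact hM.1.not_dvd_one) c.pgroup
    (one_mem _) hj hne c.block hje hle

theorem mVal_eq {R : Subgroup G} {φ N : ℕ} (hφ : 0 < φ) {J : MonoidAlgebra (ResK M) G}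
    (h1 : (Nat.card P : ℂ) * (φ : ℂ) * (N : ℂ) =
      (Nat.card (cz R) : ℂ) * oneC hM (brMap (ResK M) R J))
    (h2 : (Nat.card (cz R) : ℂ) * oneC hM (blkA p P (eA hM (cz P) e) R) =
      (Nat.card P : ℂ) * ((φ : ℂ) * (φ : ℂ))) :
    mVal hM P (eA hM (cz P) e) J R = N := by
  have hN : (Nat.card P : ℂ) * (N : ℂ) ^ 2 *
      ((Nat.card (cz R) : ℂ) * oneC hM (blkA p P (eA hM (cz P) e) R)) =
        ((Nat.card (cz R) : ℂ) * oneC hM (brMap (ResK M) R J)) ^ 2 := by rw [h2, ← h1]; ring
  have h : ∃ N : ℕ, (Nat.card P : ℂ) * (N : ℂ) ^ 2 *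
      ((Nat.card (cz R) : ℂ) * oneC hM (blkA p P (eA hM (cz P) e) R)) =
        ((Nat.card (cz R) : ℂ) * oneC hM (brMap (ResK M) R J)) ^ 2 := ⟨N, hN⟩
  rw [mVal, dif_pos h]
  have h3 := h.choose_spec.trans hN.symm
  generalize h.choose = N₀ at h3 ⊢
  rw [h2] at h3
  have hn : (Nat.card P : ℂ) ≠ 0 := Nat.cast_ne_zero.2 Nat.card_pos.ne'
  have hf : (φ : ℂ) ≠ 0 := Nat.cast_ne_zero.2 hφ.ne'
  have h4 := mul_left_cancel₀ hn (mul_right_cancel₀ (mul_ne_zero hn (mul_ne_zero hf hf)) h3)
  have h5 : N₀ ^ 2 = N ^ 2 := by exact_mod_cast h4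
  exact (Nat.pow_left_injective (by norm_num) h5)

/-- The values in the group itself. -/
theorem fVal_eq {x : P} (hx : SecNil hM P e x) {J : MonoidAlgebra (ResK M) G}
    (hJ : SrcIdem hM P e J) {E : MonoidAlgebra (lRing hM) G} (hE : IsIdempotentElem E)
    (hEr : red hM E = J) (hEc : ∀ u : P, Commute (single (u : G) 1) E) (χ : IrrCharacter G) :
    fVal hM (χ : G → ℂ) E x =
      dd c x χ * (mVal hM P (eA hM (cz P) e) J (Subgroup.zpowers (x : G)) : ℂ) := by
  obtain ⟨-, -, -, hle⟩ := bx_spec c x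
  have hb := blkA_eq c hle
  obtain ⟨N, h1, h2⟩ := exists_value c hx hE (hEc x) (by
    have h := hJ.loc (Subgroup.zpowers (x : G)) (Subgroup.zpowers_le.2 x.2)
    rwa [hb, ← hEr] at h)
  rw [fVal, h1 χ, mVal_eq c (secDeg_spec c hx).1 (by rw [← hEr]; exact h2)
    (by rw [hb]; exact card_mul_oneC_bx c hx)]

/-- Without inertia the decomposition numbers have absolute value one. -/
theorem dd_mul_conj (hc : Central hM P e) (x : P) {χ : IrrCharacter G} (hχ : χ ∈ B) :
    dd c x χ * conj (dd c x χ) = 1 := by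
  have hx := hc.secNil x
  set φ : ℂ := (secDeg c x : ℂ)
  have hφ : φ ≠ 0 := Nat.cast_ne_zero.2 (secDeg_spec c hx).1.ne'
  obtain ⟨-, -, -, -, hcard, -⟩ := exists_central_data c hc
  let b : B → KGV.rootField (Nat.card G) := fun η =>
    ⟨dd c x η.1 * conj (dd c x η.1), mul_mem (isIntegral_dd c hx η.1).2
      (KGV.conj_mem_rootField (isIntegral_dd c hx η.1).2)⟩
  have hsum : ∑ η : B, (b η : ℂ) = (Fintype.card B : ℂ) := by
    rw [← Nat.card_eq_fintype_card, hcard]
    have h := sum_dlt_self c hx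
    simp only [b]
    rw [← Finset.sum_subtype (Finset.univ.filter (· ∈ B)) (fun η => by simp)
      (fun η : IrrCharacter G => dd c x η * conj (dd c x η))]
    simp only [dd, map_div₀, Complex.conj_natCast, div_mul_div_comm, ← Finset.sum_div]
    rw [h, mul_div_assoc, div_self (mul_ne_zero hφ hφ), mul_one]
  exact NilBlk.eq_one_of_sum_eq_card (Nat.card_pos (α := G)) b
    (fun η => (isIntegral_dd c hx η.1).1.mul
      ((isIntegral_dd c hx η.1).1.map (starRingEnd ℂ).toIntAlgHom))
    (fun η h0 => by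
      have h1 : dd c x η.1 * conj (dd c x η.1) = 0 := congrArg Subtype.val h0
      rw [Complex.mul_conj, Complex.ofReal_eq_zero, Complex.normSq_eq_zero] at h1
      exact dd_ne_zero c hx η.2 h1)
    (fun σ η => by
      refine ⟨Complex.normSq (σ ⟨dd c x η.1, (isIntegral_dd c hx η.1).2⟩),
        Complex.normSq_nonneg _, ?_⟩
      rw [← Complex.mul_conj,
        ← KGV.map_conj_rootField Nat.card_pos σ (isIntegral_dd c hx η.1).2, ← map_mul]
      rfl) hsum ⟨χ, hχ⟩

/-- The maximal pair inside the centraliser of a subgroup of `P`. -/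
theorem exists_insideQ {Q : Subgroup G} (hQ : Q ≤ P) :
    ∃ (β : Set (IrrCharacter (cz Q)))
      (e' : Set (IrrCharacter (Subgroup.centralizer ((P.subgroupOf (cz Q) : Subgroup (cz Q)) :
        Set (cz Q))))),
      AbCtx hM β (P.subgroupOf (cz Q)) e' ∧
      inclA (ResK M) (cz Q) (eA hM (cz (P.subgroupOf (cz Q))) e') = eA hM (cz P) e := by
  obtain ⟨f, hf, -, -, -, -, hdg, hov⟩ := CyclicDefectBound.exists_local_block
    (K := cz Q) hM c.isPBlockB c.defect c.comm c.block c.cover hQ rfl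
  have hPH : P ≤ cz Q := c.comm.trans (cz_anti hQ)
  have hle : cz P ≤ cz Q := cz_anti hQ
  have hK := mem_cz_subgroupOf hPH
  refine ⟨f, CharCorr.twistIrr (inEquiv hle hK) '' e, ⟨?_, ?_⟩, inclA_eA hM hle hK e⟩
  · have hbe : IsPBlock M (CharCorr.twistIrr (inEquiv hle hK) '' e) :=
      isPBlock_twist _ c.hmax.1.1.2
    refine (isMaximalBrauerPair_iff hM f _ _).2 ⟨(isBrauerPairOf_iff hM f _ _).2 ⟨hbe, hf,
      c.pgroup.comap_subtype, bot_le, le_top, isBlockIdem_eA hM hbe, ?_⟩,
      (isDefectGroup_iff hM hf _).1 hdg⟩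
    rw [← (inclA_injective (cz Q)).eq_iff, map_mul, inclA_brMap,
      Subgroup.map_subgroupOf_eq_of_le hPH, inclA_eA hM hle hK, inclA_eG]
    exact hov.cover
  · intro y hy
    exact (hK y).2 (c.comm hy)

/-- The generalised character attached to a nontrivial subgroup. -/
theorem exists_gVal (hfree : ∀ t ∈ pairStab P (eA hM (cz P) e), ∀ x ∈ P, x ≠ (1 : G) →
      t * x * t⁻¹ = x → t ∈ cz P) {J : MonoidAlgebra (ResK M) G} (hJ : SrcIdem hM P e J)
    {Q : Subgroup G} (hQ : Q ≤ P) (hQ1 : Q ≠ ⊥) :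
    ∃ g : P → ℂ, (∀ ν : P →* ℂˣ, ∃ N : ℕ,
        (Nat.card P : ℂ)⁻¹ * ∑ u : P, g u * (ν u : ℂ) = (N : ℂ)) ∧
      ∀ x : P, ∃ ρ : ℂ, IsIntegral ℤ ρ ∧ ρ * conj ρ = 1 ∧
        g x = ρ * (mVal hM P (eA hM (cz P) e) J (Q ⊔ Subgroup.zpowers (x : G)) : ℂ) := by
  have := charP_res hM
  obtain ⟨β, e', c', he'⟩ := exists_insideQ c hQ
  have hPH : P ≤ (cz Q) := c.comm.trans (cz_anti hQ)
  obtain ⟨q, hq, hq1⟩ := (Subgroup.ne_bot_iff_exists_ne_one).1 hQ1 |>
    fun ⟨q, hq⟩ => (⟨q.1, q.2, fun h => hq (Subtype.ext h)⟩ : ∃ q : G, q ∈ Q ∧ q ≠ 1)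
  have hc' : Central hM (P.subgroupOf (cz Q)) e' := fun t ht => by
    refine (mem_cz_subgroupOf hPH t).2 (hfree _ ((pairStab_inside hPH he' t).1 ht) q (hQ hq) hq1 ?_)
    rw [← mem_cz.1 t.2 q hq, mul_inv_cancel_right]
  -- the idempotent in the centraliser
  set JQ := brMap (ResK M) Q J with hJQ
  obtain ⟨J', hJ'⟩ : ∃ J', inclA (ResK M) (cz Q) J' = JQ :=
    ⟨restrA (ResK M) (cz Q) JQ, inclA_restrA (brMap_mem_suppAlg _ _)⟩
  have hJQfix : JQ ∈ fixAlg (ResK M) P :=
    brMap_mem_fixAlg (hPH.trans (cz_le_normalizer Q)) hJ.fix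
  have hJ'i : IsIdempotentElem J' := inclA_injective (cz Q) (by
    rw [map_mul, hJ', hJQ, ← brMap_mul (c.pgroup.to_le hQ) (fixAlg_anti hQ hJ.fix)
      (fixAlg_anti hQ hJ.fix), hJ.idem.eq])
  obtain ⟨E', hE', hE'r, hE'c⟩ := exists_idem_lift hM hJ'i
  have hEc : ∀ u : P.subgroupOf (cz Q), Commute (single (u : (cz Q)) 1) E' := fun u => by
    refine hE'c _ (commute_single_of_conjA (inclA_injective (cz Q) ?_))
    rw [inclA_conjA, hJ']
    exact hJQfix _ u.2
  obtain ⟨η, hη⟩ : β.Nonempty := ⟨_, (Contribution.exists_height_zero hM c'.isPBlockB).choose_spec.1⟩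
  let ι : P ≃* P.subgroupOf (cz Q) := (Subgroup.subgroupOfEquivOfLe hPH).symm
  refine ⟨fun x => fVal hM (η : (cz Q) → ℂ) E' (ι x), fun ν => ?_, fun x => ?_⟩
  · obtain ⟨N, hN⟩ := exists_nat_coef hM (irr_isCharacter η) hE' hEc (ν.comp ι.symm.toMonoidHom)
    refine ⟨N, ?_⟩
    rw [← hN, Nat.card_congr ι.toEquiv]
    refine congrArg _ (Fintype.sum_equiv ι.toEquiv _ _ fun u => ?_)
    simp
  · set x' : P.subgroupOf (cz Q) := ι x
    have hx'G : ((x' : (cz Q)) : G) = (x : G) := rfl
    set R := Q ⊔ Subgroup.zpowers (x : G) with hR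
    have hRP : R ≤ P := sup_le hQ (Subgroup.zpowers_le.2 x.2)
    set C := cz (Subgroup.zpowers (x' : (cz Q))) with hC
    have hRH : cz R ≤ (cz Q) := cz_anti le_sup_left
    have hmap : (Subgroup.zpowers (x' : (cz Q))).map (cz Q).subtype = Subgroup.zpowers (x : G) := by
      rw [MonoidHom.map_zpowers]; rfl
    have hmem : ∀ y : (cz Q), y ∈ C ↔ (y : G) ∈ cz R := fun y => by
      rw [hC, mem_cz, hR]
      constructor
      · intro h
        refine mem_cz.2 fun q hq => ?_
        have hle : R ≤ Subgroup.centralizer ({(y : G)} : Set G) := by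
          refine sup_le (fun z hz => ?_) (Subgroup.zpowers_le.2 ?_)
          · exact Subgroup.mem_centralizer_singleton_iff.2 (mem_cz.1 y.2 z hz)
          · exact Subgroup.mem_centralizer_singleton_iff.2
              (congrArg Subtype.val (h x' (Subgroup.mem_zpowers _)))
        exact Subgroup.mem_centralizer_singleton_iff.1 (hle hq)
      · intro h z hz
        refine Subtype.ext (mem_cz.1 h z ?_)
        refine le_sup_right (a := Q) ?_
        rw [← hmap]
        exact ⟨z, hz, rfl⟩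
    -- the block
    obtain ⟨hb, -, hcov, -⟩ := bx_spec c' x'
    set bR : Set (IrrCharacter (cz R)) :=
      CharCorr.twistIrr (inEquiv hRH hmem).symm '' bx c' x' with hbR
    have hbR' : IsPBlock M bR := isPBlock_twist _ hb
    have hinc : inclA (ResK M) (cz Q) (eA hM C (bx c' x')) = eA hM (cz R) bR := by
      rw [← inclA_eA hM hRH hmem bR, hbR, Set.image_image]
      simp [twistIrr_symm]
    have hblk : blkA p P (eA hM (cz P) e) R = eA hM (cz R) bR := by
      refine blkA_eq c (Relation.ReflTransGen.single ⟨c.pgroup.to_le hRP, c.pgroup,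
        isBlockIdem_eA hM hbR', c.block, hRP, c.comm.trans ((cz_anti hRP).trans (cz_le_normalizer R)),
        fixAlg_anti (c.comm.trans (cz_anti hRP)) (isBlockIdem_eA hM hbR').fixed, ?_⟩)
      have h := congrArg (inclA (ResK M) (cz Q)) hcov
      rwa [map_mul, inclA_brMap, Subgroup.map_subgroupOf_eq_of_le hPH, hinc, he'] at h
    have hbr : brMap (ResK M) (Subgroup.zpowers (x : G)) JQ = brMap (ResK M) R J := by
      ext y
      by_cases hy : y ∈ cz R
      · rw [coeff_brMap_of_mem _ hy, coeff_brMap_of_mem _ (cz_anti le_sup_right hy), hJQ,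
          coeff_brMap_of_mem _ (cz_anti le_sup_left hy)]
      · rw [coeff_eq_zero_of_mem_suppAlg (brMap_mem_suppAlg R J) hy]
        by_cases hyx : y ∈ cz (Subgroup.zpowers (x : G))
        · rw [coeff_brMap_of_mem _ hyx, hJQ]
          by_cases hyQ : y ∈ cz Q
          · refine absurd ?_ hy
            exact mem_cz.2 fun q hq => Subgroup.mem_centralizer_singleton_iff.1
              ((sup_le (fun z hz => Subgroup.mem_centralizer_singleton_iff.2 (mem_cz.1 hyQ z hz))
                (fun z hz => Subgroup.mem_centralizer_singleton_iff.2 (mem_cz.1 hyx z hz)) :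
                  R ≤ Subgroup.centralizer ({y} : Set G)) hq)
          · exact coeff_eq_zero_of_mem_suppAlg (brMap_mem_suppAlg Q J) hyQ
        · exact coeff_eq_zero_of_mem_suppAlg (brMap_mem_suppAlg _ JQ) hyx
    have hincbr : inclA (ResK M) (cz Q) (brMap (ResK M) (Subgroup.zpowers (x' : (cz Q))) J') =
        brMap (ResK M) R J := by rw [inclA_brMap, hmap, hJ', hbr]
    have hx'n := hc'.secNil x'
    obtain ⟨N, h1, h2⟩ := exists_value c' hx'n hE' (hEc x') (by
      rw [hE'r]
      refine inclA_injective (cz Q) ?_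
      rw [map_mul, hincbr, hinc, ← hblk]
      exact hJ.loc R hRP)
    rw [hE'r] at h2
    have hcard : Nat.card C = Nat.card (cz R) :=
      Nat.card_congr (inEquiv hRH hmem).toEquiv
    have hcardP : Nat.card (P.subgroupOf (cz Q)) = Nat.card P := Nat.card_congr ι.symm.toEquiv
    have hxp : IsPGroup p (Subgroup.zpowers (x' : (cz Q))) :=
      BPStar.isPGroup_zpowers (exists_pow_orderOf c' x')
    have hJ'fix : J' ∈ fixAlg (ResK M) (Subgroup.zpowers (x' : (cz Q))) := by
      intro z hz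
      refine inclA_injective (cz Q) ?_
      rw [inclA_conjA, hJ']
      refine hJQfix _ ?_
      obtain ⟨i, rfl⟩ := Subgroup.mem_zpowers_iff.1 hz
      rw [SubgroupClass.coe_zpow]
      exact P.zpow_mem x.2 i
    have hbi : IsIdempotentElem (brMap (ResK M) (Subgroup.zpowers (x' : (cz Q))) J') := by
      rw [IsIdempotentElem, ← brMap_mul hxp hJ'fix hJ'fix, hJ'i.eq]
    have hm : mVal hM P (eA hM (cz P) e) J R = N := by
      refine mVal_eq c (secDeg_spec c' hx'n).1 ?_ ?_
      · rw [← hincbr, oneC_inclA hM hbi, ← hcard, ← hcardP]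
        exact h2
      · rw [hblk, ← hinc, oneC_inclA hM (isBlockIdem_eA hM hb).idem, ← hcard, ← hcardP]
        exact card_mul_oneC_bx c' hx'n
    refine ⟨dd c' x' η, (isIntegral_dd c' hx'n η).1, dd_mul_conj c' hc' x' hη, ?_⟩
    show fVal hM (η : (cz Q) → ℂ) E' x' = _
    rw [fVal, h1 η, hm]

end CfsgLib.FreeInertial
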