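import Cfsg.Agent.Lib.FreeInertial.Section

/-!
# Values of characters on lifted idempotents at a nilpotent section

The value at `x` of a lifted idempotent whose Brauer image lies in the block at `x` is the
decomposition number times a natural number determined by the coefficient at the identity.
-/

set_option autoImplicit false
set_option linter.unusedSectionVars false

namespace CfsgLib.FreeInertial

open Cfsg MonoidAlgebra CfsgLib.Blocks CfsgLib.BrauerPairs CfsgLib.BPStar CfsgLib.Characters
open scoped Classical ComplexConjugate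

universe u

variable {p : ℕ} [Fact p.Prime] {M : Ideal AlgInt} [M.IsMaximal]
variable {G : Type u} [Group G] [Fintype G]
variable {B : Set (IrrCharacter G)} {P : Subgroup G}
variable {e : Set (IrrCharacter (Subgroup.centralizer (P : Set G)))}
variable {hM : IsPModular p M}

theorem trC_blockIdem_mul_eq_zero {b : Set (IrrCharacter G)} {η : IrrCharacter G} (hη : η ∉ b)
    (y : MonoidAlgebra ℂ G) : trC (η : G → ℂ) (blockIdem b * y) = 0 := by
  have h := omega_mul η (blockIdem_mem_center b) y
  rw [omega_blockIdem, if_neg hη, zero_mul, omega_apply, div_eq_zero_iff] at h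
  exact h.resolve_right (irr_one_ne_zero η)

theorem isPPart_self {x : G} (hp : p.Prime) (hx : ∃ k : ℕ, orderOf x = p ^ k) : IsPPart p x x :=
  ⟨1, by simp, Commute.one_right _, hx, by rw [orderOf_one]; exact hp.not_dvd_one⟩

variable (c : AbCtx hM B P e)
include c

/-- The coefficient at the identity of the block idempotent at `x`. -/
theorem card_mul_oneC_bx {x : P} (hx : SecNil hM P e x) :
    (Nat.card (cz (Subgroup.zpowers (x : G))) : ℂ) *
        oneC hM (eA hM (cz (Subgroup.zpowers (x : G))) (bx c x)) =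
      (Nat.card P : ℂ) * ((secDeg c x : ℂ) * (secDeg c x : ℂ)) := by
  set C := cz (Subgroup.zpowers (x : G)) with hC
  obtain ⟨hb, -⟩ := bx_spec c x
  obtain ⟨-, h1, -, hk, -⟩ := secDeg_spec c hx
  obtain ⟨Z, hZ, hZr, -, hZi⟩ := eA_top_eq_eG hM hb
  rw [oneC_eq hM (hZ.map (inclR hM C)) (by rw [red_inclR, hZr, inclA_eG]), ← Subgroup.coe_one C,
    coeff_inclR, ← coeff_inc hM Z 1, ← sum_degree_trC, hZi]
  calc ∑ η : IrrCharacter C, (η : C → ℂ) 1 * trC (η : C → ℂ) (blockIdem (bx c x))
      = ∑ η ∈ Finset.univ.filter (· ∈ bx c x), (secDeg c x : ℂ) * (secDeg c x : ℂ) := by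
        rw [Finset.sum_filter]
        refine Finset.sum_congr rfl fun η _ => ?_
        rw [← mul_one (blockIdem (bx c x))]
        by_cases hη : η ∈ bx c x
        · rw [if_pos hη, trC_blockIdem_mul hη, MonoidAlgebra.one_def, trC_single, one_mul, h1 η hη]
        · rw [if_neg hη, trC_blockIdem_mul_eq_zero hη, mul_zero]
    _ = _ := by
        rw [Finset.sum_const, nsmul_eq_mul, ← hk, Nat.card_eq_fintype_card, ← Fintype.card_subtype]

/-- The value of a lifted idempotent at `x`. -/
theorem exists_value {x : P} (hx : SecNil hM P e x) {E : MonoidAlgebra (lRing hM) G}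
    (hE : IsIdempotentElem E) (hEx : Commute (single (x : G) 1) E)
    (hEb : brMap (ResK M) (Subgroup.zpowers (x : G)) (red hM E) *
      eA hM (cz (Subgroup.zpowers (x : G))) (bx c x) =
        brMap (ResK M) (Subgroup.zpowers (x : G)) (red hM E)) :
    ∃ N : ℕ, (∀ χ : IrrCharacter G,
        trR hM (χ : G → ℂ) (single (x : G) 1 * E) = dd c x χ * (N : ℂ)) ∧
      (Nat.card P : ℂ) * (secDeg c x : ℂ) * (N : ℂ) =
        (Nat.card (cz (Subgroup.zpowers (x : G))) : ℂ) *
          oneC hM (brMap (ResK M) (Subgroup.zpowers (x : G)) (red hM E)) := by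
  have := charP_res hM
  set C := cz (Subgroup.zpowers (x : G)) with hC
  obtain ⟨hb, -⟩ := bx_spec c x
  obtain ⟨-, h1, hreg, hk, -⟩ := secDeg_spec c hx
  set f := brMap (ResK M) (Subgroup.zpowers (x : G)) (red hM E) with hf
  have hxp : IsPGroup p (Subgroup.zpowers (x : G)) :=
    BPStar.isPGroup_zpowers (exists_pow_orderOf c x)
  have hfix : red hM E ∈ fixAlg (ResK M) (Subgroup.zpowers (x : G)) := by
    refine mem_fix_zpowers ?_
    have h2 := hEx.map (red hM)
    rw [red_single, map_one] at h2
    rw [conjA, h2.eq, mul_assoc, single_mul_single, mul_inv_cancel, mul_one,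
      ← MonoidAlgebra.one_def, mul_one]
  have hfi : IsIdempotentElem f := by
    rw [IsIdempotentElem, hf, ← brMap_mul hxp hfix hfix, (hE.map (red hM)).eq]
  obtain ⟨f', hf'⟩ : ∃ f' : MonoidAlgebra (ResK M) C, inclA (ResK M) C f' = f :=
    ⟨restrA (ResK M) C f, inclA_restrA (brMap_mem_suppAlg _ _)⟩
  have hf'i : IsIdempotentElem f' := inclA_injective C (by rw [map_mul, hf', hfi.eq])
  obtain ⟨F, hF, hFr, -⟩ := exists_idem_lift hM hf'i
  obtain ⟨Z, hZ, hZr, hZc, hZi⟩ := eA_top_eq_eG hM hb
  have hZF : Commute F Z := by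
    rw [eq_sum_single F]
    refine Commute.sum_left _ _ _ fun g _ => ?_
    rw [show single g (F.coeff g) = (F.coeff g) • single g (1 : lRing hM) by simp]
    exact (hZc g).smul_left _
  set E₂ := F * Z with hE₂
  have hE₂i : IsIdempotentElem E₂ := hF.mul_of_commute hZF hZ
  have hE₂r : red hM E₂ = f' := by
    refine inclA_injective C ?_
    rw [hE₂, map_mul, map_mul, hFr, hZr, hf', inclA_eG]
    exact hEb
  have hxc : ∀ y ∈ C, (x : G) * y = y * x := fun y hy => mem_cz.1 hy x (Subgroup.mem_zpowers _)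
  have hcomm : Commute (single (x : G) 1) (inclR hM C E₂) := by
    rw [commute_single_iff]
    intro y
    by_cases hy : y ∈ C
    · rw [hxc y hy, mul_inv_cancel_right]
    · rw [coeff_inclR_of_notMem hM E₂ hy, coeff_inclR_of_notMem hM E₂ fun h => hy ?_]
      have h2 := hxc _ h
      rw [mul_assoc ((x : G) * y), inv_mul_cancel, mul_one] at h2
      rw [mul_left_cancel h2] at h
      exact h
  have hval : ∀ χ : IrrCharacter G, trR hM (χ : G → ℂ) (single (x : G) 1 * E) =
      ∑ η : IrrCharacter C, secMult (x : G) (χ : G → ℂ) η * trC (η : C → ℂ) (inc hM E₂) := by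
    intro χ
    rw [trR_idem_congr hM (irr_isCharacter χ) (isPPart_self hM.1 (exists_pow_orderOf c x)) hE
      (hE₂i.map (inclR hM C)) hEx hcomm fun y hy => by
        rw [red_inclR, hE₂r, hf', hf, coeff_brMap_of_mem _ (by rwa [cz_zpowers])]]
    have h2 : trR hM (χ : G → ℂ) (single (x : G) 1 * inclR hM C E₂) =
        ∑ a : C, (E₂.coeff a : ℂ) * (χ : G → ℂ) ((x : G) * a) := by
      conv_lhs => rw [eq_sum_single E₂]
      rw [map_sum, Finset.mul_sum, trR, map_sum, map_sum]
      refine Finset.sum_congr rfl fun a _ => ?_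
      rw [show inclR hM C (single a (E₂.coeff a)) = single (a : G) (E₂.coeff a) by
        simp [inclR], single_mul_single, one_mul, inc_single, trC_single]
    rw [h2]
    have h3 := classFunction_eq_sum (isClassFunction_secFun (irr_isClassFunction χ) (x : G))
    rw [Finset.sum_congr rfl fun a _ => show (E₂.coeff a : ℂ) * (χ : G → ℂ) ((x : G) * a) =
      ∑ η : IrrCharacter C, secMult (x : G) (χ : G → ℂ) η *
        ((E₂.coeff a : ℂ) * (η : C → ℂ) a) from ?_]
    · rw [Finset.sum_comm]
      refine Finset.sum_congr rfl fun η _ => ?_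
      rw [← Finset.mul_sum]
      congr 1
    · have h4 := congrFun h3 a
      simp only [Finset.sum_apply, Pi.smul_apply, smul_eq_mul] at h4
      rw [show (χ : G → ℂ) ((x : G) * a) = secFun (x : G) (χ : G → ℂ) a from rfl, h4,
        Finset.mul_sum]
      exact Finset.sum_congr rfl fun η _ => by rw [secMult]; ring
  obtain ⟨η₀, hη₀⟩ : (bx c x).Nonempty := by
    rw [Set.nonempty_iff_ne_empty]
    intro h
    rw [h] at hk
    rw [Nat.card_eq_zero.2 (Or.inl inferInstance)] at hk
    exact (Nat.card_pos (α := P)).ne' hk.symm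
  obtain ⟨N, hN⟩ := exists_nat_trC_idem (irr_isCharacter η₀) (hE₂i.map (inc hM))
  have hout : ∀ η : IrrCharacter C, η ∉ bx c x → trC (η : C → ℂ) (inc hM E₂) = 0 := fun η hη => by
    rw [hE₂, hZF.eq, map_mul (inc hM), hZi, trC_blockIdem_mul_eq_zero hη]
  have hin : ∀ η : IrrCharacter C, η ∈ bx c x → trC (η : C → ℂ) (inc hM E₂) = (N : ℂ) :=
    fun η hη => by
      rw [← hN]
      exact trC_eq_of_regular hM (irr_isClassFunction η) (irr_isClassFunction η₀)
        (fun g hg => hreg η hη η₀ hη₀ g hg) hE₂i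
  refine ⟨N, fun χ => ?_, ?_⟩
  · rw [hval, dd_eq c hx, Finset.sum_mul, Finset.sum_filter]
    refine Finset.sum_congr rfl fun η _ => ?_
    split_ifs with hη
    · rw [hin η hη]
    · rw [hout η hη, mul_zero]
  · rw [oneC_eq hM (hE₂i.map (inclR hM C)) (by rw [red_inclR, hE₂r, hf']), ← Subgroup.coe_one C,
      coeff_inclR, ← coeff_inc hM E₂ 1, ← sum_degree_trC]
    rw [← Finset.sum_filter_add_sum_filter_not Finset.univ (fun η => η ∈ bx c x),
      Finset.sum_eq_zero (s := Finset.univ.filter fun η => ¬ η ∈ bx c x) fun η hη => by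
        rw [hout η (Finset.mem_filter.1 hη).2, mul_zero], add_zero,
      Finset.sum_congr rfl (g := fun _ => (secDeg c x : ℂ) * (N : ℂ)) fun η hη => by
        rw [h1 η (Finset.mem_filter.1 hη).2, hin η (Finset.mem_filter.1 hη).2],
      Finset.sum_const, nsmul_eq_mul, ← hk, Nat.card_eq_fintype_card, ← Fintype.card_subtype]
    ring

end CfsgLib.FreeInertial
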